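import Mathlib.Algebra.BigOperators.Group.Finset.Basic
import Mathlib.Algebra.Order.BigOperators.Group.Multiset
import Mathlib.Data.Nat.Factorial.Basic
import Mathlib.Data.Rat.Cast.Order
import Mathlib.Tactic

/-!
# A finiteness statement for sums of unit fractions
-/

set_option autoImplicit false

namespace CfsgLib.CharBlocks.ModularJordan

/-- In `d / Q = ∑ 1 / aᵢ - 1 / g` with boundedly many terms, `g` is at most a bounded multiple of `1`
or of one of the `aᵢ`. -/
theorem egypt : ∀ (r Q : ℕ), 0 < Q → ∃ B : ℕ, ∀ (l : Multiset ℕ), Multiset.card l ≤ r →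
    (∀ a ∈ l, 0 < a) → ∀ g : ℕ, 0 < g → ∀ d : ℤ,
      (d : ℚ) / Q = (l.map fun a : ℕ => (1 : ℚ) / a).sum - 1 / g →
        g ≤ B ∨ ∃ a ∈ l, g ≤ B * a := by
  intro r
  induction r with
  | zero =>
    intro Q hQ
    refine ⟨Q, fun l hl _ g hg d hd => Or.inl ?_⟩
    rw [Multiset.card_eq_zero.mp (Nat.le_zero.mp hl)] at hd
    simp only [Multiset.map_zero, Multiset.sum_zero, zero_sub] at hd
    have hg' : (0 : ℚ) < 1 / g := by positivity
    have hdq : (d : ℚ) / Q < 0 := by linarith
    have hd1 : (d : ℚ) ≤ -1 := by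
      have : d < 0 := by
        by_contra hc
        push Not at hc
        exact absurd hdq (not_lt.mpr (by positivity))
      exact_mod_cast Int.le_sub_one_iff.mpr this
    have h1 : (1 : ℚ) / Q ≤ 1 / g := by
      have : (d : ℚ) / Q ≤ -1 / Q := by gcongr
      rw [neg_div] at this
      linarith
    rw [div_le_div_iff_of_pos_left one_pos (by positivity) (by positivity)] at h1
    exact_mod_cast h1
  | succ r ih =>
    intro Q hQ
    obtain ⟨B', hB'⟩ := ih ((Q * (r + 1)).factorial * Q)
      (Nat.mul_pos (Nat.factorial_pos _) hQ)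
    refine ⟨max Q (max B' 1), fun l hl hpos g hg d hd => ?_⟩
    have hnn : ∀ x ∈ l.map (fun a : ℕ => (1 : ℚ) / a), 0 ≤ x := by
      intro x hx
      obtain ⟨a, -, rfl⟩ := Multiset.mem_map.mp hx
      positivity
    have hge : 0 ≤ (l.map fun a : ℕ => (1 : ℚ) / a).sum := Multiset.sum_nonneg hnn
    have hg' : (0 : ℚ) < 1 / g := by positivity
    rcases lt_trichotomy d 0 with hd0 | hd0 | hd0
    · -- negative
      refine Or.inl (le_trans ?_ (le_max_left _ _))
      have hd1 : (d : ℚ) ≤ -1 := by exact_mod_cast Int.le_sub_one_iff.mpr hd0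
      have h1 : (1 : ℚ) / Q ≤ 1 / g := by
        have : (d : ℚ) / Q ≤ -1 / Q := by gcongr
        rw [neg_div] at this
        linarith
      rw [div_le_div_iff_of_pos_left one_pos (by positivity) (by positivity)] at h1
      exact_mod_cast h1
    · -- zero
      subst hd0
      rw [Int.cast_zero, zero_div] at hd
      obtain ⟨a, ha⟩ : ∃ a, a ∈ l := by
        refine Multiset.exists_mem_of_ne_zero fun h0 => ?_
        rw [h0] at hd
        simp only [Multiset.map_zero, Multiset.sum_zero, zero_sub] at hd
        linarith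
      refine Or.inr ⟨a, ha, ?_⟩
      have h1 : (1 : ℚ) / a ≤ 1 / g := by
        have := Multiset.single_le_sum hnn _ (Multiset.mem_map_of_mem _ ha)
        linarith
      rw [div_le_div_iff_of_pos_left one_pos (by exact_mod_cast hpos a ha) (by positivity)] at h1
      exact le_trans (by exact_mod_cast h1)
        (Nat.le_mul_of_pos_left a (lt_of_lt_of_le one_pos ((le_max_right _ _).trans (le_max_right _ _))))
    · -- positive
      have hd1 : (1 : ℚ) / Q ≤ (l.map fun a : ℕ => (1 : ℚ) / a).sum := by
        have : (1 : ℚ) ≤ d := by exact_mod_cast hd0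
        have : (1 : ℚ) / Q ≤ (d : ℚ) / Q := by gcongr
        linarith
      obtain ⟨a, ha, hsmall⟩ : ∃ a ∈ l, a ≤ Q * (r + 1) := by
        by_contra hc
        push Not at hc
        have hlt : ∀ x ∈ l.map (fun a : ℕ => (1 : ℚ) / a), x ≤ 1 / (Q * (r + 1) + 1 : ℕ) := by
          intro x hx
          obtain ⟨a, ha, rfl⟩ := Multiset.mem_map.mp hx
          exact one_div_le_one_div_of_le (by positivity) (by exact_mod_cast hc a ha)
        have h1 := Multiset.sum_le_card_nsmul _ _ hlt
        rw [Multiset.card_map, nsmul_eq_mul] at h1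
        have h2 : (Multiset.card l : ℚ) ≤ r + 1 := by exact_mod_cast hl
        have h3 : (1 : ℚ) / Q ≤ ((r : ℚ) + 1) * (1 / (Q * (r + 1) + 1 : ℕ)) :=
          hd1.trans (h1.trans (mul_le_mul_of_nonneg_right h2 (by positivity)))
        push_cast at h3
        rw [mul_one_div, div_le_div_iff₀ (by positivity) (by positivity)] at h3
        nlinarith
      obtain ⟨e, he⟩ := Nat.dvd_factorial (hpos a ha) hsmall
      have hl' : Multiset.card (l.erase a) ≤ r := by
        rw [Multiset.card_erase_of_mem ha]
        exact Nat.pred_le_iff.mpr hl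
      have hsum : (l.map fun a : ℕ => (1 : ℚ) / a).sum =
          1 / a + ((l.erase a).map fun a : ℕ => (1 : ℚ) / a).sum := by
        conv_lhs => rw [← Multiset.cons_erase ha]
        rw [Multiset.map_cons, Multiset.sum_cons]
      have hkey := hB' (l.erase a) hl' (fun b hb => hpos b (Multiset.mem_of_mem_erase hb)) g hg
        (d * (Q * (r + 1)).factorial - (e * Q : ℕ)) (by
          rw [hsum] at hd
          have ha0 : (a : ℚ) ≠ 0 := by exact_mod_cast (hpos a ha).ne'
          have he0 : (e : ℚ) ≠ 0 := by
            have : e ≠ 0 := fun h0 => (Nat.factorial_pos (Q * (r + 1))).ne' (by rw [he, h0, mul_zero])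
            exact_mod_cast this
          have hQ0 : (Q : ℚ) ≠ 0 := by exact_mod_cast hQ.ne'
          rw [he]
          push_cast
          rw [show ((d : ℚ) * ((a : ℚ) * e) - (e : ℚ) * Q) / ((a : ℚ) * e * Q) =
            (d : ℚ) / Q - 1 / a by field_simp]
          linarith)
      rcases hkey with h | ⟨b, hb, h⟩
      · exact Or.inl (h.trans ((le_max_left _ _).trans (le_max_right _ _)))
      · exact Or.inr ⟨b, Multiset.mem_of_mem_erase hb, h.trans (Nat.mul_le_mul_right _
          ((le_max_left _ _).trans (le_max_right _ _)))⟩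

end CfsgLib.CharBlocks.ModularJordan
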