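import Cfsg.Agent.Lib.CharBlocks.ModularJordan.Tori
import Cfsg.Agent.Lib.CharBlocks.ModularJordan.Egyptian

/-!
# Counting along the tori

In a group as in `Setting` an abelian subgroup has bounded index.
-/

set_option autoImplicit false
set_option linter.unusedSectionVars false

noncomputable section

namespace CfsgLib.CharBlocks.ModularJordan

universe u

/-- A set saturated under right multiplication by `T`. -/
theorem card_saturated {G : Type*} [Group G] [Finite G] (T : Subgroup G) (X : Set G)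
    (h : ∀ x ∈ X, ∀ t ∈ T, x * t ∈ X) :
    Nat.card X = Nat.card T * Nat.card ((QuotientGroup.mk : G → G ⧸ T) '' X) := by
  have hX : QuotientGroup.mk ⁻¹' ((QuotientGroup.mk : G → G ⧸ T) '' X) = X := by
    refine Set.Subset.antisymm ?_ (Set.subset_preimage_image _ _)
    rintro y ⟨x, hx, he⟩
    rw [QuotientGroup.eq] at he
    simpa using h x hx _ he
  rw [← Nat.card_prod]
  conv_lhs => rw [← hX]
  exact Nat.card_congr (QuotientGroup.preimageMkEquivSubgroupProdSet T _)

variable {G : Type u} [Group G] [Finite G]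

theorem card_conj_invariant_mul {H : Type u} [Group H] [Finite H] {s : Set H} {Q : ℕ}
    (hinv : ∀ x ∈ s, ∀ g : H, g * x * g⁻¹ ∈ s)
    (hQ : ∀ x ∈ s, Nat.card (Subgroup.centralizer ({x} : Set H)) ∣ Q) :
    Nat.card H ∣ Nat.card s * Q := by
  classical
  have := Fintype.ofFinite H
  have : Finite (ConjClasses H) := Finite.of_surjective ConjClasses.mk ConjClasses.mk_surjective
  have := Fintype.ofFinite (ConjClasses H)
  rw [Nat.card_coe_set_eq, Set.ncard_eq_toFinset_card',
    Finset.card_eq_sum_card_fiberwise (f := ConjClasses.mk) (t := Finset.univ)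
      (fun _ _ => Finset.mem_univ _), Finset.sum_mul]
  refine Finset.dvd_sum fun C _ => ?_
  rcases Finset.eq_empty_or_nonempty (s.toFinset.filter fun x => ConjClasses.mk x = C) with
    he | ⟨x, hx⟩
  · rw [he, Finset.card_empty, zero_mul]; exact dvd_zero _
  rw [Finset.mem_filter, Set.mem_toFinset] at hx
  have hset : (s.toFinset.filter fun y => ConjClasses.mk y = C) =
      (MulAction.orbit (ConjAct H) x).toFinset := by
    ext y
    simp only [Finset.mem_filter, Set.mem_toFinset, ← hx.2, ConjClasses.mk_eq_mk_iff_isConj]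
    rw [ConjAct.mem_orbit_conjAct]
    refine ⟨fun h => h.2, fun h => ⟨?_, h⟩⟩
    obtain ⟨g, hg⟩ := isConj_iff.mp h.symm
    exact hg ▸ hinv x hx.1 g
  have hst : Nat.card (MulAction.stabilizer (ConjAct H) x) =
      Nat.card (Subgroup.centralizer ({x} : Set H)) :=
    Nat.card_congr (Equiv.subtypeEquiv ConjAct.ofConjAct.toEquiv fun g => by
      rw [MulAction.mem_stabilizer_iff, ConjAct.smul_def, Subgroup.mem_centralizer_singleton_iff,
        mul_inv_eq_iff_eq_mul]
      rfl)
  rw [hset, ← Set.ncard_eq_toFinset_card', ← Nat.card_coe_set_eq,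
    show Nat.card H = Nat.card (MulAction.orbit (ConjAct H) x) *
      Nat.card (MulAction.stabilizer (ConjAct H) x) by
      rw [Nat.card_coe_set_eq, ← MulAction.index_stabilizer, mul_comm, Subgroup.card_mul_index]
      exact Nat.card_congr ConjAct.toConjAct.toEquiv]
  exact Nat.mul_dvd_mul_left _ (hst ▸ hQ x hx.1)

/-- An abelian subgroup of bounded index. -/
theorem exists_good_index (J n : ℕ) : ∃ B : ℕ, ∀ (G : Type u) [Group G] [Finite G] (p : ℕ)
    (Z : Subgroup G) [Z.Normal], Setting p Z J n →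
    (∀ x ∉ Z, Nat.card ((Subgroup.centralizer ({QuotientGroup.mk x} : Set (G ⧸ Z))).comap
      (QuotientGroup.mk' Z)) ≤ n * Nat.card (Subgroup.centralizer ({x} : Set G))) →
    ∃ A : Subgroup G, Good p A ∧ A.index ≤ B := by
  set S0 := n * (J * (J.factorial ^ 8) ^ n) with hS0
  set W := n.factorial * (J * (J.factorial ^ 2) ^ n) with hW
  obtain ⟨B, hB⟩ := egypt (2 * W) (S0 + W).factorial (Nat.factorial_pos _)
  refine ⟨B + B * W, fun G _ _ p Z _ S hstab => ?_⟩
  classical
  set Q := (S0 + W).factorial with hQ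
  set g := Z.index with hgdef
  have hg : 0 < g := Nat.pos_of_ne_zero Subgroup.index_ne_zero_of_finite
  set z := Nat.card Z with hz
  have hz0 : 0 < z := Nat.card_pos
  -- the family of tori
  let Tor := {T : Subgroup G // S.IsTor T}
  letI : MulAction G Tor :=
    { smul := fun x T => ⟨T.1.map (MulAut.conj x).toMonoidHom, S.isTor_map x T.2⟩
      one_smul := fun T => Subtype.ext (by
        show T.1.map (MulAut.conj (1 : G)).toMonoidHom = T.1
        conv_rhs => rw [← Subgroup.map_id T.1]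
        congr 1; ext y; simp)
      mul_smul := fun x y T => Subtype.ext (by
        show T.1.map (MulAut.conj (x * y)).toMonoidHom =
          (T.1.map (MulAut.conj y).toMonoidHom).map (MulAut.conj x).toMonoidHom
        rw [Subgroup.map_map]; congr 1; ext w; simp [mul_assoc]) }
  have hsmul : ∀ (x : G) (T : Tor), (x • T).1 = T.1.map (MulAut.conj x).toMonoidHom :=
    fun _ _ => rfl
  have hmem : ∀ (x : G) (T : Tor) {a : G}, a ∈ T.1 → x * a * x⁻¹ ∈ (x • T).1 :=
    fun x T a ha => ⟨a, ha, rfl⟩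
  have hstabT : ∀ T : Tor, MulAction.stabilizer G T = Subgroup.normalizer (T.1 : Set G) := by
    intro T
    ext x
    rw [MulAction.mem_stabilizer_iff, Subgroup.mem_normalizer_iff]
    refine ⟨fun h a => ⟨fun ha => h ▸ hmem x T ha, fun ha => ?_⟩, fun h => Subtype.ext ?_⟩
    · have ha' : x * a * x⁻¹ ∈ (x • T).1 := h.symm ▸ ha
      obtain ⟨b, hb, hbe⟩ := ha'
      obtain rfl : b = a := (MulAut.conj x).injective hbe
      exact hb
    · rw [hsmul]
      refine Subgroup.eq_of_le_of_card_ge (Subgroup.map_le_iff_le_comap.mpr fun a ha => (h a).mp ha)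
        (by rw [Subgroup.card_map_of_injective (MulAut.conj x).injective])
  -- saturation
  let X : Tor → Set G := fun T => S.U T.1 ∪ (Z : Set G)
  have hXsat : ∀ T : Tor, ∀ x ∈ X T, ∀ t ∈ T.1, x * t ∈ X T := by
    intro T x hx t ht
    by_cases hz' : x * t ∈ Z
    · exact Or.inr hz'
    rcases hx with hx | hx
    · exact Or.inl (S.mul_mem_U T.2.1 hx ht hz')
    · exact Or.inl (S.mem_U_of_mem T.2 (T.1.mul_mem (T.2.2.1 hx) ht) hz')
  let k : Tor → ℕ := fun T => Nat.card ((QuotientGroup.mk : G → G ⧸ T.1) '' X T)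
  let t : Tor → ℕ := fun T => Z.relIndex T.1
  let w : Tor → ℕ := fun T => T.1.relIndex (Subgroup.normalizer (T.1 : Set G))
  let a : Tor → ℕ := fun T => Z.relIndex (Subgroup.normalizer (T.1 : Set G))
  have hcardT : ∀ T : Tor, Nat.card T.1 = z * t T := fun T => by
    have h := Subgroup.card_mul_index (Z.subgroupOf T.1)
    rw [Nat.card_congr (Subgroup.subgroupOfEquivOfLe T.2.2.1).toEquiv] at h
    exact h.symm
  have hcardN : ∀ T : Tor, Nat.card (Subgroup.normalizer (T.1 : Set G)) = z * a T := fun T => by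
    have h := Subgroup.card_mul_index (Z.subgroupOf (Subgroup.normalizer (T.1 : Set G)))
    rw [Nat.card_congr
      (Subgroup.subgroupOfEquivOfLe (T.2.2.1.trans Subgroup.le_normalizer)).toEquiv] at h
    exact h.symm
  have hat : ∀ T : Tor, t T * w T = a T := fun T =>
    Subgroup.relIndex_mul_relIndex Z T.1 _ T.2.2.1 Subgroup.le_normalizer
  have hw : ∀ T : Tor, 0 < w T ∧ w T ≤ W := fun T => by
    refine ⟨Nat.pos_of_ne_zero Subgroup.index_ne_zero_of_finite, ?_⟩
    have h := Subgroup.card_mul_index (T.1.subgroupOf (Subgroup.normalizer (T.1 : Set G)))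
    rw [Nat.card_congr (Subgroup.subgroupOfEquivOfLe Subgroup.le_normalizer).toEquiv] at h
    refine Nat.le_of_mul_le_mul_left ?_ (Nat.card_pos (α := T.1))
    rw [mul_comm (Nat.card T.1) W]
    exact h.le.trans (S.card_normalizer_tor T.2)
  have ht : ∀ T : Tor, 2 ≤ t T := fun T => by
    rcases Nat.lt_or_ge (t T) 2 with h | h
    · exfalso
      obtain ⟨y, hy, hyZ⟩ := S.lv_not_le T.2.2.2.1
      have h1 : t T = 1 := le_antisymm (Nat.le_of_lt_succ h)
        (Nat.pos_of_ne_zero Subgroup.index_ne_zero_of_finite)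
      exact hyZ (Subgroup.relIndex_eq_one.mp h1 hy)
    · exact h
  have hk : ∀ T : Tor, 1 ≤ k T := fun T => by
    have : Nonempty ((QuotientGroup.mk : G → G ⧸ T.1) '' X T) :=
      ⟨⟨_, 1, Or.inr Z.one_mem, rfl⟩⟩
    exact Nat.card_pos
  -- the small elements
  let sb : Set (G ⧸ Z) := {y | y ≠ 1 ∧ ∀ x : G, QuotientGroup.mk x = y → ∀ T : Tor, x ∉ S.U T.1}
  let sG : Set G := {x | x ∉ Z ∧ ∀ T : Tor, x ∉ S.U T.1}
  have hUz : ∀ (T : Tor) {x : G} {c : G}, c ∈ Z → x ∈ S.U T.1 → x * c ∈ S.U T.1 := fun T x c hc hx =>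
    S.mul_mem_U T.2.1 hx (T.2.2.1 hc) fun h => hx.1 (by simpa using Z.mul_mem h (Z.inv_mem hc))
  have himage : (QuotientGroup.mk : G → G ⧸ Z) '' sG = sb := by
    ext y
    obtain ⟨x, rfl⟩ := QuotientGroup.mk_surjective y
    constructor
    · rintro ⟨x', hx', he⟩
      refine ⟨fun h => hx'.1 ((QuotientGroup.eq_one_iff x').mp (he.trans h)), fun x'' h'' T hU => ?_⟩
      rw [← he, QuotientGroup.eq] at h''
      have h1 := hUz T h'' hU
      rw [mul_inv_cancel_left] at h1
      exact hx'.2 T h1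
    · rintro ⟨h1, h2⟩
      exact ⟨x, ⟨fun h => h1 ((QuotientGroup.eq_one_iff x).mpr h), fun T => h2 x rfl T⟩, rfl⟩
  have hsG : Nat.card sG = z * Nat.card sb := by
    rw [card_saturated Z sG fun x hx c hc => ⟨fun h => hx.1 (by
      simpa using Z.mul_mem h (Z.inv_mem hc)), fun T hU => hx.2 T (by
        simpa using hUz T (Z.inv_mem hc) hU)⟩, himage]
  have := Fintype.ofFinite G
  have := Fintype.ofFinite Tor
  -- total count
  have hX : ∀ T : Tor, Nat.card (S.U T.1) + z = z * (t T * k T) := fun T => by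
    have h := card_saturated T.1 (X T) (hXsat T)
    rw [Nat.card_coe_set_eq, Set.ncard_union_eq
      (Set.disjoint_left.mpr fun x hx hxz => hx.1 hxz), ← Nat.card_coe_set_eq, ← Nat.card_coe_set_eq,
      SetLike.coe_sort_coe, hcardT, mul_assoc] at h
    exact h
  have htotal : (∑ T : Tor, Nat.card (S.U T.1)) + Nat.card sG + z = g * z := by
    have h1 : Nat.card G = g * z := (Subgroup.index_mul_card Z).symm
    rw [← h1, Nat.card_eq_fintype_card (α := G), ← Finset.card_univ]
    have hdis : (↑(Finset.univ : Finset Tor) : Set Tor).PairwiseDisjoint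
        fun T => (S.U T.1).toFinset := by
      intro T _ T' _ hne
      refine Finset.disjoint_left.mpr fun x hx hx' => hne (Subtype.ext ?_)
      exact S.U_disjoint T.2 T'.2 (Set.mem_toFinset.mp hx) (Set.mem_toFinset.mp hx')
    have h2 : (Finset.univ : Finset G) = (Finset.univ.biUnion fun T : Tor => (S.U T.1).toFinset) ∪
        sG.toFinset ∪ (Z : Set G).toFinset := by
      ext x
      simp only [Finset.mem_univ, Finset.mem_union, Finset.mem_biUnion, Set.mem_toFinset, true_and,
        true_iff]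
      by_cases hx : x ∈ Z
      · exact Or.inr hx
      by_cases hU : ∃ T : Tor, x ∈ S.U T.1
      · exact Or.inl (Or.inl hU)
      · exact Or.inl (Or.inr ⟨hx, fun T hT => hU ⟨T, hT⟩⟩)
    rw [h2, Finset.card_union_of_disjoint, Finset.card_union_of_disjoint, Finset.card_biUnion hdis]
    · simp only [← Set.ncard_eq_toFinset_card', ← Nat.card_coe_set_eq]
      rfl
    · refine Finset.disjoint_left.mpr fun x hx hx' => ?_
      obtain ⟨T, -, hT⟩ := Finset.mem_biUnion.mp hx
      exact (Set.mem_toFinset.mp hx').2 T (Set.mem_toFinset.mp hT)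
    · refine Finset.disjoint_left.mpr fun x hx hx' => ?_
      rcases Finset.mem_union.mp hx with hx | hx
      · obtain ⟨T, -, hT⟩ := Finset.mem_biUnion.mp hx
        exact (Set.mem_toFinset.mp hT).1 (Set.mem_toFinset.mp hx')
      · exact (Set.mem_toFinset.mp hx).1 (Set.mem_toFinset.mp hx')
  -- the small classes
  have hinvU : ∀ (T : Tor) (y x : G), x ∈ S.U T.1 → y * x * y⁻¹ ∈ S.U (y • T).1 := by
    rintro T y x ⟨hx, b, ⟨hb1, hb2⟩, hb⟩
    refine ⟨fun h => hx ?_, y * b * y⁻¹, ⟨hmem y T hb1, ?_⟩, ?_⟩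
    · simpa [mul_assoc] using (inferInstance : Z.Normal).conj_mem _ h y⁻¹
    · refine Subgroup.mem_centralizer_singleton_iff.mpr ?_
      have h1 : Commute b x := Subgroup.mem_centralizer_singleton_iff.mp hb2
      exact h1.map (MulAut.conj y)
    · rw [conj_pow]
      exact fun h => hb (by simpa [mul_assoc] using (inferInstance : Z.Normal).conj_mem _ h y⁻¹)
  have hdvd : g ∣ Nat.card sb * Q := by
    refine card_conj_invariant_mul (H := G ⧸ Z) (fun y hy q => ?_) fun y hy => ?_
    · obtain ⟨c, rfl⟩ := QuotientGroup.mk_surjective q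
      refine ⟨fun h => hy.1 ?_, fun x hx T hU => ?_⟩
      · have := congrArg (fun v => (c : G ⧸ Z)⁻¹ * v * (c : G ⧸ Z)) h
        simpa [mul_assoc] using this
      · refine hy.2 (c⁻¹ * x * c) ?_ (c⁻¹ • T) ?_
        · rw [QuotientGroup.mk_mul, QuotientGroup.mk_mul, hx, QuotientGroup.mk_inv]
          simp [mul_assoc]
        · simpa using hinvU T c⁻¹ x hU
    · obtain ⟨x, rfl⟩ := QuotientGroup.mk_surjective y
      have hxZ : x ∉ Z := fun h => hy.1 ((QuotientGroup.eq_one_iff x).mpr h)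
      refine Nat.dvd_factorial Nat.card_pos (le_trans ?_ (Nat.le_add_right _ _))
      have h1 := hstab x hxZ
      have h2 := S.card_centralizer_small hxZ fun T hT => hy.2 x rfl ⟨T, hT⟩
      set C := Subgroup.centralizer ({(QuotientGroup.mk x : G ⧸ Z)} : Set (G ⧸ Z))
      have h3 : Nat.card (C.comap (QuotientGroup.mk' Z)) = z * Nat.card C := by
        rw [hz, ← Nat.card_prod]
        exact Nat.card_congr (QuotientGroup.preimageMkEquivSubgroupProdSet Z (C : Set (G ⧸ Z)))
      refine Nat.le_of_mul_le_mul_left ?_ hz0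
      rw [← h3, hS0, show z * (n * (J * (J.factorial ^ 8) ^ n)) =
        n * (J * ((J.factorial ^ 8) ^ n * z)) by ring]
      exact h1.trans (Nat.mul_le_mul le_rfl h2)
  obtain ⟨xs, hxs⟩ := hdvd
  -- orbits
  have hconst : ∀ (y : G) (T : Tor), t (y • T) = t T ∧ k (y • T) = k T := by
    intro y T
    have hc : Nat.card (y • T).1 = Nat.card T.1 := by
      rw [hsmul, Subgroup.card_map_of_injective (MulAut.conj y).injective]
    have ht' : t (y • T) = t T := by
      rw [hcardT, hcardT] at hc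
      exact Nat.eq_of_mul_eq_mul_left hz0 hc
    refine ⟨ht', ?_⟩
    have hU : Nat.card (S.U (y • T).1) = Nat.card (S.U T.1) := Nat.card_congr
      (Equiv.subtypeEquiv (MulAut.conj y).toEquiv fun x => ⟨hinvU T y x, fun h => by
        have := hinvU (y • T) y⁻¹ _ h
        rw [inv_smul_smul] at this
        simpa [mul_assoc] using this⟩).symm
    have h1 := hX (y • T)
    rw [hU, hX T, ht'] at h1
    exact (Nat.eq_of_mul_eq_mul_left (Nat.pos_of_ne_zero fun h => by
      have := ht T; omega) (Nat.eq_of_mul_eq_mul_left hz0 h1)).symm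
  let Ω := MulAction.orbitRel.Quotient G Tor
  have : Fintype Ω := Fintype.ofFinite _
  have horb : ∀ ω : Ω, Nat.card (MulAction.orbitRel.Quotient.orbit ω) * a ω.out = g := fun ω => by
    rw [MulAction.orbitRel.Quotient.orbit_eq_orbit_out ω Quotient.out_eq']
    refine Nat.eq_of_mul_eq_mul_left hz0 ?_
    rw [← mul_assoc, mul_comm z (Nat.card _), mul_assoc, ← hcardN, ← hstabT,
      Nat.card_coe_set_eq, ← MulAction.index_stabilizer, mul_comm, Subgroup.card_mul_index, hgdef, mul_comm,
      Subgroup.index_mul_card]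
  have hsum : ∑ T : Tor, ((t T : ℚ) * k T - 1) =
      ∑ ω : Ω, (g : ℚ) / (a ω.out) * ((t ω.out : ℚ) * k ω.out - 1) := by
    rw [Fintype.sum_equiv (MulAction.selfEquivSigmaOrbits' G Tor) _
      (fun q => (t q.2.1 : ℚ) * k q.2.1 - 1) fun T => by rfl, Fintype.sum_sigma]
    refine Finset.sum_congr rfl fun ω _ => ?_
    have hrep : ∀ q : MulAction.orbitRel.Quotient.orbit ω,
        (t q.1 : ℚ) * k q.1 - 1 = (t ω.out : ℚ) * k ω.out - 1 := by
      rintro ⟨T, hT⟩
      rw [MulAction.orbitRel.Quotient.orbit_eq_orbit_out ω Quotient.out_eq'] at hT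
      obtain ⟨y, rfl⟩ := hT
      rw [(hconst y _).1, (hconst y _).2]
    rw [Finset.sum_congr rfl fun q _ => hrep q, Finset.sum_const, Finset.card_univ,
      ← Nat.card_eq_fintype_card, nsmul_eq_mul]
    congr 1
    rw [eq_div_iff (Nat.cast_ne_zero.mpr fun h0 => hg.ne' (by rw [← horb ω, h0, mul_zero]))]
    exact_mod_cast horb ω
  have hgq : (0 : ℚ) < g := by exact_mod_cast hg
  have hzq : (z : ℚ) ≠ 0 := by exact_mod_cast hz0.ne'
  have hQq : (Q : ℚ) ≠ 0 := by exact_mod_cast (Nat.factorial_pos _).ne'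
  have hUcast : ∀ T : Tor, (Nat.card (S.U T.1) : ℚ) = z * ((t T : ℚ) * k T - 1) := fun T => by
    have h : ((Nat.card (S.U T.1) + z : ℕ) : ℚ) = ((z * (t T * k T) : ℕ) : ℚ) := by rw [hX T]
    push_cast at h
    linarith
  -- `g - 1 = ∑ (t k - 1) + |small|`
  have heq : (g : ℚ) - 1 = ∑ T : Tor, ((t T : ℚ) * k T - 1) + (Nat.card sb : ℚ) := by
    have h : (((∑ T : Tor, Nat.card (S.U T.1)) + Nat.card sG + z : ℕ) : ℚ) = ((g * z : ℕ) : ℚ) := by
      rw [htotal]
    push_cast [hsG] at h
    simp only [hUcast, ← Finset.mul_sum] at h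
    refine mul_left_cancel₀ hzq ?_
    linear_combination -h
  have hterm : ∀ ω : Ω, (0 : ℚ) < a ω.out ∧
      ((t ω.out : ℚ) * k ω.out - 1) / a ω.out =
        (k ω.out : ℚ) / w ω.out - 1 / a ω.out ∧
      1 / (2 * W : ℚ) ≤ ((t ω.out : ℚ) * k ω.out - 1) / a ω.out := by
    intro ω
    obtain ⟨hw0, hwW⟩ := hw ω.out
    have ht2 : (2 : ℚ) ≤ t ω.out := by exact_mod_cast ht ω.out
    have hk1 : (1 : ℚ) ≤ k ω.out := by exact_mod_cast hk ω.out
    have hw0' : (0 : ℚ) < w ω.out := by exact_mod_cast hw0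
    have hwW' : (w ω.out : ℚ) ≤ W := by exact_mod_cast hwW
    have ha : (a ω.out : ℚ) = t ω.out * w ω.out := by rw [← hat]; push_cast; rfl
    refine ⟨by rw [ha]; positivity, ?_, ?_⟩
    · rw [ha, sub_div, mul_div_mul_left _ _ (by positivity : (t ω.out : ℚ) ≠ 0)]
    · rw [ha, div_le_div_iff₀ (by nlinarith) (by positivity)]
      have hWnn : (0 : ℚ) ≤ W := by positivity
      have h1 : (t ω.out : ℚ) * w ω.out ≤ t ω.out * W := by gcongr
      have h2 : (t ω.out : ℚ) * W ≤ 2 * ((t ω.out : ℚ) - 1) * W := by nlinarith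
      have h3 : ((t ω.out : ℚ) - 1) ≤ (t ω.out : ℚ) * k ω.out - 1 := by nlinarith
      nlinarith
  have heqg : (1 : ℚ) - 1 / g =
      ∑ ω : Ω, ((t ω.out : ℚ) * k ω.out - 1) / a ω.out + (xs : ℚ) / Q := by
    have hxs' : (Nat.card sb : ℚ) * Q = g * xs := by exact_mod_cast hxs
    have h1 : (Nat.card sb : ℚ) = g * ((xs : ℚ) / Q) := by
      rw [← mul_div_assoc, eq_div_iff hQq, hxs']
    refine mul_left_cancel₀ hgq.ne' ?_
    rw [mul_sub, mul_one, mul_one_div_cancel hgq.ne', heq, hsum, h1, mul_add, Finset.mul_sum]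
    congr 1
    exact Finset.sum_congr rfl fun ω _ => by ring
  -- few orbits
  have hfew : Fintype.card Ω ≤ 2 * W := by
    have h1 : (Fintype.card Ω : ℚ) * (1 / (2 * W : ℚ)) ≤ 1 := by
      calc (Fintype.card Ω : ℚ) * (1 / (2 * W : ℚ)) = ∑ _ω : Ω, (1 / (2 * W : ℚ)) := by simp
        _ ≤ ∑ ω : Ω, ((t ω.out : ℚ) * k ω.out - 1) / a ω.out :=
          Finset.sum_le_sum fun ω _ => (hterm ω).2.2
        _ ≤ 1 := by
          have : (0 : ℚ) ≤ (xs : ℚ) / Q := by positivity
          have : (0 : ℚ) < 1 / g := by positivity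
          linarith
    rcases Nat.eq_zero_or_pos (Fintype.card Ω) with h | h
    · omega
    obtain ⟨ω⟩ := Fintype.card_pos_iff.mp h
    have hW0 : 0 < W := lt_of_lt_of_le (hw ω.out).1 (hw ω.out).2
    rw [mul_one_div, div_le_one (by positivity)] at h1
    exact_mod_cast h1
  set c : Ω → ℕ := fun ω => k ω.out * (Q / w ω.out)
  have hc : ∀ ω : Ω, (c ω : ℚ) / Q = (k ω.out : ℚ) / w ω.out := fun ω => by
    obtain ⟨hw0, hwW⟩ := hw ω.out
    have hd : w ω.out ∣ Q := Nat.dvd_factorial hw0 (hwW.trans (Nat.le_add_left _ _))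
    have hw0' : (w ω.out : ℚ) ≠ 0 := by exact_mod_cast hw0.ne'
    simp only [c]
    rw [Nat.cast_mul, Nat.cast_div hd hw0']
    field_simp
  rcases hB (Finset.univ.val.map fun ω : Ω => a ω.out) (by simpa using hfew)
      (fun b hb => by
        obtain ⟨ω, -, rfl⟩ := Multiset.mem_map.mp hb
        exact_mod_cast (hterm ω).1)
      g hg ((∑ ω, c ω : ℕ) + (xs : ℤ) - Q) (by
        rw [Multiset.map_map]
        show _ = (∑ ω : Ω, (1 : ℚ) / (a ω.out : ℕ)) - 1 / g
        have h1 : ∑ ω : Ω, ((t ω.out : ℚ) * k ω.out - 1) / a ω.out =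
            (∑ ω : Ω, (c ω : ℚ)) / Q - ∑ ω : Ω, (1 : ℚ) / (a ω.out : ℕ) := by
          rw [Finset.sum_div, ← Finset.sum_sub_distrib]
          exact Finset.sum_congr rfl fun ω _ => by rw [(hterm ω).2.1, hc ω]
        push_cast
        rw [sub_div, add_div, div_self hQq]
        linarith) with hle | ⟨b, hb, hle⟩
  · refine ⟨Z, ⟨fun x hx y hy => S.comm_z hy x, S.zp⟩, hle.trans (Nat.le_add_right _ _)⟩
  · obtain ⟨ω, -, rfl⟩ := Multiset.mem_map.mp hb
    refine ⟨(ω.out : Tor).1, (ω.out : Tor).2.1, le_trans ?_ (Nat.le_add_left _ _)⟩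
    have h1 : t ω.out * (ω.out : Tor).1.index = g := Subgroup.relIndex_mul_index (ω.out : Tor).2.2.1
    have h2 : t ω.out * (ω.out : Tor).1.index ≤ t ω.out * (B * W) := by
      rw [h1]
      refine hle.trans ?_
      rw [← hat, show B * (t ω.out * w ω.out) = t ω.out * (B * w ω.out) by ring]
      exact Nat.mul_le_mul le_rfl (Nat.mul_le_mul le_rfl (hw ω.out).2)
    exact Nat.le_of_mul_le_mul_left h2 (lt_of_lt_of_le Nat.zero_lt_two (ht ω.out))

end CfsgLib.CharBlocks.ModularJordan
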