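import Cfsg.Agent.Lib.CharBlocks.ModularJordan.Count
import Mathlib.GroupTheory.SchurZassenhaus
import Mathlib.GroupTheory.PGroup
import Mathlib.FieldTheory.IsAlgClosed.AlgebraicClosure
import Mathlib.LinearAlgebra.Eigenspace.Charpoly
import Mathlib.LinearAlgebra.Quotient.Basic

/-!
# Jordan's theorem in characteristic `p` for bounded Sylow `p`-subgroups (Brauer–Feit)
-/

set_option autoImplicit false
set_option linter.unusedSectionVars false

noncomputable section

namespace CfsgLib.CharBlocks.ModularJordan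

open Module

universe u v

variable {G : Type u} [Group G] [Finite G] {F : Type v} [Field F] {p : ℕ} [CharP F p]
  {V : Type v} [AddCommGroup V] [Module F V] [FiniteDimensional F V]

/-- The statement in dimension at most `n`. -/
def Bound (p m n J : ℕ) : Prop :=
  ∀ (G : Type u) [Group G] [Finite G] (F : Type v) [Field F] [IsAlgClosed F] [CharP F p]
    (V : Type v) [AddCommGroup V] [Module F V] [FiniteDimensional F V] (ρ : G →* End F V),
    finrank F V ≤ n → Function.Injective ρ → ¬ p ^ (m + 1) ∣ Nat.card G →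
      ∃ A : Subgroup G, Good p A ∧ A.index ≤ J

theorem one_add_pow {N : End F V} (h : N * N = 0) (k : ℕ) : (1 + N) ^ k = 1 + k • N := by
  induction k with
  | zero => simp
  | succ k ih =>
    rw [pow_succ, ih, add_mul, one_mul, mul_add, mul_one, smul_mul_assoc, h, smul_zero, add_zero,
      succ_nsmul]
    abel

/-- A unipotent element has order dividing `p`. -/
theorem pow_p_eq_one (ρ : G →* End F V) (hinj : Function.Injective ρ) {x : G}
    (h : (ρ x - 1) * (ρ x - 1) = 0) : x ^ p = 1 := by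
  refine hinj ?_
  rw [map_pow, map_one, show ρ x = 1 + (ρ x - 1) by abel, one_add_pow h,
    ← Nat.cast_smul_eq_nsmul F, CharP.cast_eq_zero, zero_smul, add_zero]

theorem exists_good_of_image {H : Type u} [Group H] [Finite H] {F : Type v} [Field F]
    [IsAlgClosed F] [CharP F p] {W : Type v} [AddCommGroup W] [Module F W] [FiniteDimensional F W]
    {m n J : ℕ} (hB : Bound.{u, v} p m n J) (hn : finrank F W ≤ n)
    (hH : ¬ p ^ (m + 1) ∣ Nat.card H) (ψ : H →* End F W) :
    ∃ A : Subgroup H, ψ.toHomUnits.ker ≤ A ∧ A.index ≤ J ∧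
      (∀ a ∈ A, ∀ b ∈ A, a * b * a⁻¹ * b⁻¹ ∈ ψ.toHomUnits.ker) ∧
      ∀ a ∈ A, ∃ k : ℕ, ¬ p ∣ k ∧ a ^ k ∈ ψ.toHomUnits.ker := by
  set φ := ψ.toHomUnits
  set Q := H ⧸ φ.ker
  let ρ : Q →* End F W := (Units.coeHom (End F W)).comp (QuotientGroup.kerLift φ)
  have hinj : Function.Injective ρ := fun a b hab =>
    QuotientGroup.kerLift_injective φ (Units.val_injective hab)
  have hQ : ¬ p ^ (m + 1) ∣ Nat.card Q := fun h => hH (h.trans (Subgroup.card_quotient_dvd_card _))
  obtain ⟨A, hA, hAJ⟩ := hB Q F W ρ hn hinj hQ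
  refine ⟨A.comap (QuotientGroup.mk' φ.ker), fun x hx => ?_, ?_, fun a ha b hb => ?_,
    fun a ha => ⟨Nat.card A, hA.2, ?_⟩⟩
  · show (QuotientGroup.mk x : Q) ∈ A
    rw [(QuotientGroup.eq_one_iff x).mpr hx]
    exact A.one_mem
  · rw [Subgroup.index_comap_of_surjective _ (QuotientGroup.mk'_surjective _)]
    exact hAJ
  · refine (QuotientGroup.eq_one_iff _).mp ?_
    have h1 : (a : Q) * b = b * a := hA.1 _ ha _ hb
    rw [QuotientGroup.mk_mul, QuotientGroup.mk_mul, QuotientGroup.mk_mul, QuotientGroup.mk_inv,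
      QuotientGroup.mk_inv, h1, mul_inv_cancel_right, mul_inv_cancel]
  · refine (QuotientGroup.eq_one_iff _).mp ?_
    have h1 : (⟨(a : Q), ha⟩ : A) ^ Nat.card A = 1 := pow_card_eq_one'
    rw [QuotientGroup.mk_pow]
    exact congrArg Subtype.val h1

/-- A subgroup stabilising a proper subspace is abelian up to bounded index. -/
theorem exists_good_of_reducible [IsAlgClosed F] [Fact p.Prime] {m n J : ℕ}
    (hB : Bound.{u, v} p m n J) (ρ : G →* End F V) (hinj : Function.Injective ρ)
    (hn : finrank F V ≤ n + 1) (hG : ¬ p ^ (m + 1) ∣ Nat.card G) (H : Subgroup G)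
    (W : Submodule F V) (hW : ∀ h ∈ H, W ≤ W.comap (ρ h)) (h0 : W ≠ ⊥) (h1 : W ≠ ⊤) :
    ∃ D : Subgroup G, Good p D ∧ D ≤ H ∧ D.relIndex H ≤ J * J * p ^ m := by
  classical
  have hp : p.Prime := Fact.out
  let ψ1 : H →* End F W :=
    { toFun := fun h => (ρ (h : G)).restrict (fun x hx => hW h h.2 hx)
      map_one' := LinearMap.ext fun x => Subtype.ext (by simp [LinearMap.restrict_apply])
      map_mul' := fun a b => LinearMap.ext fun x => Subtype.ext (by
        simp [LinearMap.restrict_apply]) }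
  let ψ2 : H →* End F (V ⧸ W) :=
    { toFun := fun h => W.mapQ W (ρ (h : G)) (hW h h.2)
      map_one' := Submodule.linearMap_qext _ (LinearMap.ext fun x => by simp)
      map_mul' := fun a b => Submodule.linearMap_qext _ (LinearMap.ext fun x => by simp) }
  have hd1 : finrank F W ≤ n := by have := Submodule.finrank_lt h1; omega
  have hd2 : finrank F (V ⧸ W) ≤ n := by
    have h2 := W.finrank_quotient_add_finrank
    have h3 : 0 < finrank F W := Nat.pos_of_ne_zero fun h => h0 (Submodule.finrank_eq_zero.mp h)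
    omega
  have hH : ¬ p ^ (m + 1) ∣ Nat.card H := fun h => hG (h.trans (Subgroup.card_subgroup_dvd_card H))
  obtain ⟨A1, hK1, hi1, hc1, ho1⟩ := exists_good_of_image hB hd1 hH ψ1
  obtain ⟨A2, hK2, hi2, hc2, ho2⟩ := exists_good_of_image hB hd2 hH ψ2
  set H0 := A1 ⊓ A2 with hH0
  set U : Subgroup H := ψ1.toHomUnits.ker ⊓ ψ2.toHomUnits.ker with hU
  have hUH : U ≤ H0 := inf_le_inf hK1 hK2
  have hUp : IsPGroup p U := fun x => by
    refine ⟨1, Subtype.ext (Subtype.ext ?_)⟩
    rw [pow_one]
    show ((x : H) : G) ^ p = 1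
    refine pow_p_eq_one (F := F) ρ hinj (LinearMap.ext fun y => ?_)
    have h2 : ψ1 x.1 = 1 := congrArg Units.val (MonoidHom.mem_ker.mp x.2.1)
    have h3 : ψ2 x.1 = 1 := congrArg Units.val (MonoidHom.mem_ker.mp x.2.2)
    have hy : ρ ((x : H) : G) y - y ∈ W := by
      have h4 : ψ2 x.1 (Submodule.Quotient.mk y) = Submodule.Quotient.mk y := by rw [h3]; rfl
      exact (Submodule.Quotient.eq W).mp h4
    have h5 : ψ1 x.1 ⟨_, hy⟩ = ⟨_, hy⟩ := by rw [h2]; rfl
    have h6 : ρ ((x : H) : G) (ρ ((x : H) : G) y - y) = ρ ((x : H) : G) y - y :=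
      congrArg Subtype.val h5
    show ρ ((x : H) : G) (ρ ((x : H) : G) y - y) - (ρ ((x : H) : G) y - y) = 0
    rw [h6, sub_self]
  obtain ⟨b, hb⟩ := IsPGroup.iff_card.mp hUp
  have hbm : b ≤ m := by
    by_contra hc
    exact hH ((pow_dvd_pow p (Nat.succ_le_of_lt (not_le.mp hc))).trans
      (hb ▸ Subgroup.card_subgroup_dvd_card U))
  let U' := U.subgroupOf H0
  have hU'n : U'.Normal := by
    have : U.Normal := inferInstanceAs ((ψ1.toHomUnits.ker ⊓ ψ2.toHomUnits.ker).Normal)
    exact Subgroup.normal_subgroupOf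
  have hU'c : Nat.card U' = p ^ b := by
    rw [Nat.card_congr (Subgroup.subgroupOfEquivOfLe hUH).toEquiv, hb]
  have hidx : ¬ p ∣ U'.index := by
    intro hd
    rw [Subgroup.index_eq_card] at hd
    obtain ⟨y, hy⟩ := exists_prime_orderOf_dvd_card' p hd
    obtain ⟨x, rfl⟩ := QuotientGroup.mk_surjective y
    obtain ⟨k1, hk1, hm1⟩ := ho1 x.1 x.2.1
    obtain ⟨k2, hk2, hm2⟩ := ho2 x.1 x.2.2
    have h4 : ((x : H0) : H0 ⧸ U') ^ (k1 * k2) = 1 := by
      rw [← QuotientGroup.mk_pow, QuotientGroup.eq_one_iff, Subgroup.mem_subgroupOf,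
        Subgroup.coe_pow]
      refine ⟨?_, ?_⟩
      · rw [pow_mul]; exact Subgroup.pow_mem _ hm1 _
      · rw [mul_comm, pow_mul]; exact Subgroup.pow_mem _ hm2 _
    have h5 := orderOf_dvd_of_pow_eq_one h4
    rw [hy] at h5
    exact (hp.dvd_mul.mp h5).elim hk1 hk2
  obtain ⟨C, hC⟩ := Subgroup.exists_right_complement'_of_coprime (N := U')
    (hU'c ▸ (hp.coprime_iff_not_dvd.mpr hidx).pow_left b)
  let D := (C.map H0.subtype).map H.subtype
  have hDC : Nat.card D = Nat.card C := by
    rw [Subgroup.card_map_of_injective H.subtype_injective,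
      Subgroup.card_map_of_injective H0.subtype_injective]
  have hCidx : Nat.card C = U'.index :=
    Nat.eq_of_mul_eq_mul_left (Nat.card_pos (α := U')) (by
      rw [hC.card_mul, Subgroup.card_mul_index])
  refine ⟨D, ⟨?_, by rw [hDC, hCidx]; exact hidx⟩, Subgroup.map_subtype_le _, ?_⟩
  · rintro _ ⟨_, ⟨a, ha, rfl⟩, rfl⟩ _ ⟨_, ⟨c, hc, rfl⟩, rfl⟩
    have h4 : a * c * a⁻¹ * c⁻¹ ∈ C :=
      C.mul_mem (C.mul_mem (C.mul_mem ha hc) (C.inv_mem ha)) (C.inv_mem hc)
    have h5 : a * c * a⁻¹ * c⁻¹ ∈ U' :=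
      ⟨hc1 a.1 a.2.1 c.1 c.2.1, hc2 a.1 a.2.2 c.1 c.2.2⟩
    have h6 : a * c * a⁻¹ * c⁻¹ = 1 :=
      Subgroup.mem_bot.mp (hC.disjoint.le_bot ⟨h5, h4⟩)
    exact ((commute_iff_eq a c).mpr (by
      calc a * c = (a * c * a⁻¹ * c⁻¹) * (c * a) := by group
        _ = c * a := by rw [h6, one_mul])).map (H.subtype.comp H0.subtype)
  · show (((C.map H0.subtype).map H.subtype).subgroupOf H).index ≤ _
    rw [Subgroup.subgroupOf, Subgroup.comap_map_eq_self_of_injective H.subtype_injective]
    refine Nat.le_of_mul_le_mul_left ?_ (Nat.card_pos (α := C))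
    have e1 : Nat.card C * (C.map H0.subtype).index = Nat.card H := by
      rw [← show Nat.card (C.map H0.subtype) = Nat.card C from
        Subgroup.card_map_of_injective H0.subtype_injective, Subgroup.card_mul_index]
    rw [e1, ← Subgroup.card_mul_index H0, ← Subgroup.card_mul_index U', hU'c, hCidx]
    calc p ^ b * U'.index * H0.index ≤ p ^ m * U'.index * (J * J) :=
          Nat.mul_le_mul (Nat.mul_le_mul_right _ (Nat.pow_le_pow_right hp.pos hbm))
            ((Subgroup.index_inf_le).trans (Nat.mul_le_mul hi1 hi2))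
      _ = U'.index * (J * J * p ^ m) := by ring

/-- The scalar elements. -/
def scalars (ρ : G →* End F V) : Subgroup G where
  carrier := {x | ∃ c : F, ρ x = c • 1}
  one_mem' := ⟨1, by rw [map_one, one_smul]⟩
  mul_mem' := by
    rintro a b ⟨c, hc⟩ ⟨d, hd⟩
    exact ⟨c * d, by rw [map_mul, hc, hd, smul_mul_smul_comm, one_mul]⟩
  inv_mem' := by
    rintro a ⟨c, hc⟩
    refine ⟨c ^ (orderOf a - 1), ?_⟩
    have h : a⁻¹ = a ^ (orderOf a - 1) := inv_eq_of_mul_eq_one_right (by
      rw [← pow_succ', Nat.sub_add_cancel (orderOf_pos a), pow_orderOf_eq_one])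
    rw [h, map_pow, hc, smul_pow, one_pow]

theorem scalars_le_center (ρ : G →* End F V) (hinj : Function.Injective ρ) :
    scalars ρ ≤ Subgroup.center G := by
  rintro x ⟨c, hc⟩
  refine Subgroup.mem_center_iff.mpr fun g => hinj ?_
  rw [map_mul, map_mul, hc, mul_smul_comm, smul_mul_assoc, mul_one, one_mul]

theorem not_dvd_card_scalars [Fact p.Prime] (ρ : G →* End F V) (hinj : Function.Injective ρ) :
    ¬ p ∣ Nat.card (scalars ρ) := by
  intro hd
  obtain ⟨⟨x, c, hc⟩, hx⟩ := exists_prime_orderOf_dvd_card' p hd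
  rw [← Subgroup.orderOf_coe] at hx
  change orderOf x = p at hx
  have hone : x ≠ 1 := fun h => by
    rw [h, orderOf_one] at hx
    exact (Fact.out : p.Prime).ne_one hx.symm
  have h1 : (c ^ p) • (1 : End F V) = 1 := by
    rw [← one_pow (M := End F V) p, ← smul_pow, ← hc, ← map_pow, ← hx, pow_orderOf_eq_one, map_one,
      one_pow]
  rcases subsingleton_or_nontrivial V with hV | hV
  · exact hone (hinj (LinearMap.ext fun v => Subsingleton.elim _ _))
  have h2 : c ^ p = 1 := smul_left_injective F (one_ne_zero (α := End F V))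
    (show (c ^ p) • (1 : End F V) = (1 : F) • (1 : End F V) by rw [h1, one_smul])
  have h3 : c = 1 := by
    have : ExpChar F p := ExpChar.prime Fact.out
    exact frobenius_inj F p (show frobenius F p c = frobenius F p 1 by
      rw [frobenius_def, map_one, h2])
  exact hone (hinj (by rw [hc, h3, one_smul, map_one]))

/-- Few cosets of the centralizer in the stabiliser modulo scalars. -/
theorem card_stab_le [IsAlgClosed F] (ρ : G →* End F V) (hinj : Function.Injective ρ)
    [(scalars ρ).Normal] {x : G} (hx : x ∉ scalars ρ) :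
    Nat.card ((Subgroup.centralizer ({QuotientGroup.mk x} : Set (G ⧸ scalars ρ))).comap
      (QuotientGroup.mk' (scalars ρ))) ≤
      finrank F V * Nat.card (Subgroup.centralizer ({x} : Set G)) := by
  classical
  have : Nontrivial V := by
    by_contra h
    rw [not_nontrivial_iff_subsingleton] at h
    exact hx ⟨1, LinearMap.ext fun v => Subsingleton.elim _ _⟩
  set M := (Subgroup.centralizer ({QuotientGroup.mk x} : Set (G ⧸ scalars ρ))).comap
    (QuotientGroup.mk' (scalars ρ)) with hM
  obtain ⟨μ, hμ⟩ := End.exists_eigenvalue (ρ x)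
  obtain ⟨v, hv, hv0⟩ := hμ.exists_hasEigenvector
  rw [End.mem_eigenspace_iff] at hv
  have hμ0 : μ ≠ 0 := by
    intro h
    rw [h, zero_smul] at hv
    refine hv0 ?_
    have : ρ x⁻¹ (ρ x v) = v := by
      rw [← End.mul_apply, ← map_mul, inv_mul_cancel, map_one, End.one_apply]
    rw [← this, hv, map_zero]
  have key : ∀ g : M, ∃ c : F, ρ ((g : G) * x * (g : G)⁻¹) = c • ρ x := by
    intro g
    have hg := Subgroup.mem_centralizer_singleton_iff.mp (Subgroup.mem_comap.mp g.2)
    have h1 : (((g : G) * x * (g : G)⁻¹ * x⁻¹ : G) : G ⧸ scalars ρ) = 1 := by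
      rw [QuotientGroup.mk_mul, QuotientGroup.mk_mul, QuotientGroup.mk_mul, QuotientGroup.mk_inv,
        QuotientGroup.mk_inv]
      rw [show ((g : G) : G ⧸ scalars ρ) * (x : G ⧸ scalars ρ) = x * (g : G) from hg,
        mul_inv_cancel_right, mul_inv_cancel]
    obtain ⟨c, hc⟩ := (QuotientGroup.eq_one_iff _).mp h1
    exact ⟨c, by
      rw [show (g : G) * x * (g : G)⁻¹ = ((g : G) * x * (g : G)⁻¹ * x⁻¹) * x by group, map_mul, hc,
        smul_mul_assoc, one_mul]⟩
  choose c hc using key
  have hne : ∀ g : M, c g ≠ 0 := by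
    intro g h
    have h1 := hc g
    rw [h, zero_smul] at h1
    refine hv0 ?_
    have : ρ ((g : G) * x * (g : G)⁻¹)⁻¹ (ρ ((g : G) * x * (g : G)⁻¹) v) = v := by
      rw [← End.mul_apply, ← map_mul, inv_mul_cancel, map_one, End.one_apply]
    rw [← this, h1, LinearMap.zero_apply, map_zero]
  have heig : ∀ g : M, μ / c g ∈ (ρ x).charpoly.roots.toFinset := by
    intro g
    rw [Multiset.mem_toFinset, Polynomial.mem_roots (LinearMap.charpoly_monic _).ne_zero,
      ← Module.End.hasEigenvalue_iff_isRoot_charpoly]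
    refine End.hasEigenvalue_of_hasEigenvector (x := ρ (g : G) v) ⟨?_, ?_⟩
    · rw [End.mem_eigenspace_iff]
      have h1 : ρ ((g : G) * x * (g : G)⁻¹) (ρ (g : G) v) = μ • ρ (g : G) v := by
        rw [← End.mul_apply, ← map_mul, inv_mul_cancel_right, map_mul, End.mul_apply, hv, map_smul]
      rw [hc, LinearMap.smul_apply] at h1
      rw [div_eq_mul_inv, mul_comm, mul_smul, ← h1, smul_smul, inv_mul_cancel₀ (hne g), one_smul]
    · intro h
      refine hv0 ?_
      have : ρ (g : G)⁻¹ (ρ (g : G) v) = v := by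
        rw [← End.mul_apply, ← map_mul, inv_mul_cancel, map_one, End.one_apply]
      rw [← this, h, map_zero]
  have hCM : Subgroup.centralizer ({x} : Set G) ≤ M := fun g hg => by
    rw [hM, Subgroup.mem_comap, Subgroup.mem_centralizer_singleton_iff]
    rw [Subgroup.mem_centralizer_singleton_iff] at hg
    exact congrArg (QuotientGroup.mk' (scalars ρ)) hg |> fun h => by simpa using h
  set C := (Subgroup.centralizer ({x} : Set G)).subgroupOf M with hC
  have hidx : C.index ≤ finrank F V := by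
    rw [Subgroup.index_eq_card]
    refine (Nat.card_le_card_of_injective
      (fun q : M ⧸ C => (⟨μ / c q.out, heig _⟩ : (ρ x).charpoly.roots.toFinset)) ?_).trans ?_
    · intro a b hab
      have h1 : c a.out = c b.out := by
        have := congrArg Subtype.val hab
        simp only [div_eq_mul_inv] at this
        exact inv_injective (mul_left_cancel₀ hμ0 this)
      rw [← QuotientGroup.out_eq' a, ← QuotientGroup.out_eq' b, QuotientGroup.eq]
      have h2 : (a.out : G) * x * (a.out : G)⁻¹ = (b.out : G) * x * (b.out : G)⁻¹ :=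
        hinj (by rw [hc, hc, h1])
      refine Subgroup.mem_subgroupOf.mpr (Subgroup.mem_centralizer_singleton_iff.mpr ?_)
      show (a.out : G)⁻¹ * (b.out : G) * x = x * ((a.out : G)⁻¹ * b.out)
      calc (a.out : G)⁻¹ * (b.out : G) * x
          = (a.out : G)⁻¹ * ((b.out : G) * x * (b.out : G)⁻¹) * b.out := by group
        _ = _ := by rw [← h2]; group
    · rw [Nat.card_eq_finsetCard]
      exact ((Multiset.toFinset_card_le _).trans (Polynomial.card_roots' _)).trans
        (LinearMap.charpoly_natDegree _).le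
  rw [← Subgroup.card_mul_index C, mul_comm (finrank F V)]
  exact Nat.mul_le_mul (Nat.card_congr (Subgroup.subgroupOfEquivOfLe hCM).toEquiv).le hidx

/-- The bound exists in every dimension. -/
theorem exists_bound (p m : ℕ) [Fact p.Prime] : ∀ n, ∃ J, Bound.{u, v} p m n J := by
  intro n
  induction n with
  | zero =>
    refine ⟨1, fun G _ _ F _ _ _ V _ _ _ ρ hn hinj _ => ⟨⊤, ⟨?_, ?_⟩, by simp⟩⟩
    all_goals
      have hV : Subsingleton V :=
        (Module.finrank_zero_iff (R := F)).mp (Nat.le_zero.mp hn)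
      have hG : ∀ a : G, a = 1 := fun a => hinj (LinearMap.ext fun v => Subsingleton.elim _ _)
    · intro a _ b _
      rw [hG a]; exact Commute.one_left b
    · have : Subsingleton G := ⟨fun a b => (hG a).trans (hG b).symm⟩
      rw [Subgroup.card_top, Nat.card_of_subsingleton (1 : G)]
      exact (Fact.out : p.Prime).not_dvd_one
  | succ n ih =>
    obtain ⟨J, hJ⟩ := ih
    obtain ⟨B, hB⟩ := exists_good_index.{u} (J * J * p ^ m) (n + 1)
    refine ⟨B, fun G _ _ F _ _ _ V _ _ _ ρ hn hinj hG => ?_⟩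
    have hnormal : (scalars ρ).Normal := ⟨fun z hz g => by
      rw [Subgroup.mem_center_iff.mp (scalars_le_center ρ hinj hz) g, mul_inv_cancel_right]
      exact hz⟩
    refine hB G p (scalars ρ) ⟨Fact.out, scalars_le_center ρ hinj, not_dvd_card_scalars ρ hinj,
      fun x hx => ?_, fun A hA k hk => (card_pow_eq_one_le ρ hinj hA hk).trans
        (Nat.pow_le_pow_right hk hn),
      fun T hT => (relIndex_centralizer_le ρ hinj hT).trans (Nat.factorial_le hn)⟩
      fun x hx => (card_stab_le ρ hinj hx).trans (Nat.mul_le_mul_right _ hn)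
    have : Nontrivial V := by
      by_contra h
      rw [not_nontrivial_iff_subsingleton] at h
      exact hx ⟨1, LinearMap.ext fun v => Subsingleton.elim _ _⟩
    obtain ⟨c, h0, h1⟩ := exists_eigen ρ fun c hc => hx ⟨c, hc⟩
    refine exists_good_of_reducible hJ ρ hinj hn hG _ _ (fun h hh v hv => ?_) h0 h1
    rw [Submodule.mem_comap, End.mem_eigenspace_iff, ← End.mul_apply, ← map_mul,
      ← Subgroup.mem_centralizer_singleton_iff.mp hh, map_mul, End.mul_apply,
      End.mem_eigenspace_iff.mp hv, map_smul]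

end CfsgLib.CharBlocks.ModularJordan
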