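import Cfsg.Agent.Lib.CharBlocks.ModularJordan.Weights

/-!
# Tori

In a finite group in which the centralisers of the elements outside the central subgroup `Z` are
abelian up to bounded index, the large abelian subgroups fall into classes: a class spans a torus,
distinct tori meet in `Z`, and every element outside `Z` either has a large centraliser in exactly
one torus or a centraliser of bounded order modulo `Z`.
-/

set_option autoImplicit false
set_option linter.unusedSectionVars false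

noncomputable section

namespace CfsgLib.CharBlocks.ModularJordan

variable {G : Type*} [Group G] [Finite G]

/-- The hypotheses on `G`. -/
structure Setting (p : ℕ) (Z : Subgroup G) (J n : ℕ) : Prop where
  prime : p.Prime
  central : Z ≤ Subgroup.center G
  zp : ¬ p ∣ Nat.card Z
  cent : ∀ x ∉ Z, ∃ D : Subgroup G, Good p D ∧ D ≤ Subgroup.centralizer {x} ∧
    D.relIndex (Subgroup.centralizer {x}) ≤ J
  tors : ∀ A : Subgroup G, Good p A → ∀ k : ℕ, 0 < k → Nat.card {a : A // a ^ k = 1} ≤ k ^ n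
  norm : ∀ T : Subgroup G, Good p T →
    (Subgroup.centralizer (T : Set G)).relIndex (Subgroup.normalizer (T : Set G)) ≤ n.factorial

variable {p J n : ℕ} {Z A B C T T' : Subgroup G}

theorem good_iff (hp : p.Prime) : Good p A ↔
    (∀ a ∈ A, ∀ b ∈ A, Commute a b) ∧ ∀ a ∈ A, ¬ p ∣ orderOf a := by
  refine and_congr_right fun _ => ⟨fun h a ha hd => h (hd.trans
    (Subgroup.orderOf_dvd_natCard A ha)), fun h hd => ?_⟩
  have : Fact p.Prime := ⟨hp⟩
  obtain ⟨a, ha⟩ := exists_prime_orderOf_dvd_card' p hd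
  exact h a a.2 (by rw [Subgroup.orderOf_coe, ha])

theorem good_closure (hp : p.Prime) {s : Set G} (hc : ∀ a ∈ s, ∀ b ∈ s, Commute a b)
    (ho : ∀ a ∈ s, ¬ p ∣ orderOf a) : Good p (Subgroup.closure s) := by
  have hcomm : ∀ a ∈ Subgroup.closure s, ∀ b ∈ Subgroup.closure s, Commute a b := by
    intro a ha b hb
    have h1 : Subgroup.closure s ≤ Subgroup.centralizer s := (Subgroup.closure_le _).mpr fun x hx =>
      Subgroup.mem_centralizer_iff.mpr fun y hy => hc y hy x hx
    have h2 : Subgroup.closure s ≤ Subgroup.centralizer (Subgroup.closure s : Set G) :=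
      (Subgroup.closure_le _).mpr fun x hx => Subgroup.mem_centralizer_iff.mpr fun y hy =>
        (Subgroup.mem_centralizer_iff.mp (h1 hy) x hx).symm
    exact Subgroup.mem_centralizer_iff.mp (h2 hb) a ha
  refine (good_iff hp).mpr ⟨hcomm, fun a ha => ?_⟩
  induction ha using Subgroup.closure_induction with
  | mem x hx => exact ho x hx
  | one => rw [orderOf_one]; exact hp.not_dvd_one
  | mul x y hx hy hx' hy' =>
    intro hd
    rcases hp.dvd_mul.mp ((hd.trans (hcomm x hx y hy).orderOf_mul_dvd_lcm).trans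
      (Nat.lcm_dvd_mul _ _)) with h | h
    exacts [hx' h, hy' h]
  | inv x hx hx' => rwa [orderOf_inv]

namespace Setting

variable (S : Setting p Z J n)

/-- The exponent. -/
abbrev e (_S : Setting p Z J n) : ℕ := J.factorial

/-- `A` has level `i`. -/
def Lv (_S : Setting p Z J n) (i : ℕ) (A : Subgroup G) : Prop :=
  ∃ a ∈ A, a ^ (J.factorial ^ i) ∉ Z

/-- The powers of two subgroups commute. -/
def Rel (_S : Setting p Z J n) (i j : ℕ) (A B : Subgroup G) : Prop :=
  ∀ a ∈ A, ∀ b ∈ B, Commute (a ^ (J.factorial ^ i)) (b ^ (J.factorial ^ j))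

include S in
theorem comm_z {z : G} (hz : z ∈ Z) (g : G) : Commute g z :=
  Subgroup.mem_center_iff.mp (S.central hz) g

theorem pow_level {i i' : ℕ} (h : i ≤ i') (a : G) :
    a ^ (J.factorial ^ i') = (a ^ (J.factorial ^ i)) ^ (J.factorial ^ (i' - i)) := by
  rw [← pow_mul, ← pow_add, Nat.add_sub_cancel' h]

theorem lv_mono {i i' : ℕ} (h : i ≤ i') {A : Subgroup G} (hA : S.Lv i' A) : S.Lv i A := by
  obtain ⟨a, ha, hna⟩ := hA
  exact ⟨a, ha, fun hz => hna (by rw [pow_level h]; exact Z.pow_mem hz _)⟩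

theorem lv_le {i : ℕ} (h : A ≤ B) (hA : S.Lv i A) : S.Lv i B :=
  let ⟨a, ha, hna⟩ := hA; ⟨a, h ha, hna⟩

theorem lv_not_le {i : ℕ} (hA : S.Lv i A) : ∃ a ∈ A, a ∉ Z :=
  let ⟨a, ha, hna⟩ := hA; ⟨a, ha, fun hz => hna (Z.pow_mem hz _)⟩

theorem rel_mono {i j i' j' : ℕ} (hi : i ≤ i') (hj : j ≤ j') (h : S.Rel i j A B) :
    S.Rel i' j' A B := fun a ha b hb => by
  rw [pow_level hi, pow_level hj]
  exact (h a ha b hb).pow_pow _ _

theorem rel_symm {i j : ℕ} (h : S.Rel i j A B) : S.Rel j i B A := fun b hb a ha => (h a ha b hb).symm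

theorem rel_of_le (hT : Good p T) (hA : A ≤ T) (hB : B ≤ T) (i j : ℕ) : S.Rel i j A B :=
  fun a ha b hb => (hT.1 a (hA ha) b (hB hb)).pow_pow _ _

include S in
/-- Powers of elements commuting with `u ∉ Z` lie in one abelian subgroup. -/
theorem commute_pow {u : G} (hu : u ∉ Z) {x y : G} (hx : Commute x u) (hy : Commute y u) :
    Commute (x ^ J.factorial) (y ^ J.factorial) := by
  obtain ⟨D, hD, -, hJ⟩ := S.cent u hu
  have hmem : ∀ w, Commute w u → w ^ J.factorial ∈ D := by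
    intro w hw
    obtain ⟨k, hk0, hk, hkD⟩ := Subgroup.exists_pow_mem_of_relIndex_ne_zero
      (Subgroup.index_ne_zero_of_finite : D.relIndex (Subgroup.centralizer {u}) ≠ 0)
      (Subgroup.mem_centralizer_singleton_iff.mpr hw)
    obtain ⟨t, ht⟩ := Nat.dvd_factorial hk0 (hk.trans hJ)
    rw [ht, pow_mul]
    exact D.pow_mem hkD.1 _
  exact hD.1 _ (hmem x hx) _ (hmem y hy)

theorem of_common {i j : ℕ} {u : G} (hu : u ∉ Z) (hA : ∀ a ∈ A, Commute (a ^ (J.factorial ^ i)) u)
    (hB : ∀ b ∈ B, Commute (b ^ (J.factorial ^ j)) u) : S.Rel (i + 1) (j + 1) A B :=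
  fun a ha b hb => by
    rw [pow_succ, pow_succ, pow_mul, pow_mul]
    exact S.commute_pow hu (hA a ha) (hB b hb)

theorem upgrade {i j : ℕ} (hA : Good p A) (hl : S.Lv i A) (h : S.Rel i j A B) :
    S.Rel 1 (j + 1) A B := by
  obtain ⟨a0, ha0, hu⟩ := hl
  refine S.of_common (i := 0) hu (fun a ha => ?_) fun b hb => (h a0 ha0 b hb).symm
  rw [pow_zero, pow_one]
  exact (hA.1 a ha a0 ha0).pow_right _

theorem normalise {i j : ℕ} (hA : Good p A) (hB : Good p B) (hlA : S.Lv i A)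
    (hlA1 : S.Lv 2 A) (hlB : S.Lv (j + 1) B) (h : S.Rel i j A B) : S.Rel 2 2 A B := by
  have h1 := S.rel_symm (S.upgrade hA hlA h)
  exact S.rel_mono le_rfl (by norm_num) (S.rel_symm (S.upgrade hB hlB h1))

/-- The members of the classes. -/
def Member (S : Setting p Z J n) (A : Subgroup G) : Prop := Good p A ∧ S.Lv 4 A

theorem trans (hA : S.Member A) (hB : S.Member B) (hC : S.Member C) (h1 : S.Rel 2 2 A B)
    (h2 : S.Rel 2 2 B C) : S.Rel 2 2 A C := by
  obtain ⟨b0, hb0, hu⟩ := S.lv_mono (by norm_num : 2 ≤ 4) hB.2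
  refine S.normalise (i := 3) (j := 3) hA.1 hC.1 (S.lv_mono (by norm_num) hA.2)
    (S.lv_mono (by norm_num) hA.2) (S.lv_mono (by norm_num) hC.2) ?_
  exact S.of_common hu (fun a ha => h1 a ha b0 hb0) fun c hc => (h2 b0 hb0 c hc).symm

/-- Generators of the torus of `A`. -/
def gens (S : Setting p Z J n) (A : Subgroup G) : Set G :=
  (Z : Set G) ∪
    {x | ∃ B, S.Member B ∧ S.Rel 2 2 A B ∧ ∃ b ∈ B, x = b ^ (J.factorial ^ 2)}

/-- The torus of `A`. -/
def TT (S : Setting p Z J n) (A : Subgroup G) : Subgroup G := Subgroup.closure (S.gens A)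

theorem z_le_TT : Z ≤ S.TT A := fun _ hz => Subgroup.subset_closure (Or.inl hz)

theorem pow_mem_TT (hA : S.Member A) {a : G} (ha : a ∈ A) :
    a ^ (J.factorial ^ 2) ∈ S.TT A :=
  Subgroup.subset_closure (Or.inr ⟨A, hA, S.rel_of_le hA.1 le_rfl le_rfl 2 2, a, ha, rfl⟩)

theorem good_TT (hA : S.Member A) : Good p (S.TT A) := by
  refine good_closure S.prime ?_ ?_
  · rintro x (hx | ⟨B, hB, hAB, b, hb, rfl⟩) y (hy | ⟨C, hC, hAC, c, hc, rfl⟩)
    · exact S.comm_z hy x
    · exact (S.comm_z hx _).symm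
    · exact S.comm_z hy _
    · exact S.trans hB hA hC (S.rel_symm hAB) hAC b hb c hc
  · rintro x (hx | ⟨B, hB, -, b, hb, rfl⟩)
    · exact fun hd => S.zp (hd.trans (Subgroup.orderOf_dvd_natCard Z hx))
    · exact ((good_iff S.prime).mp hB.1).2 _ (B.pow_mem hb _)

theorem TT_le_of_rel (hA : S.Member A) (hB : S.Member B) (h : S.Rel 2 2 A B) : S.TT A ≤ S.TT B := by
  refine Subgroup.closure_mono ?_
  rintro x (hx | ⟨C, hC, hAC, c, hc, rfl⟩)
  · exact Or.inl hx
  · exact Or.inr ⟨C, hC, S.trans hB hA hC (S.rel_symm h) hAC, c, hc, rfl⟩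

theorem TT_eq_of_rel (hA : S.Member A) (hB : S.Member B) (h : S.Rel 2 2 A B) : S.TT A = S.TT B :=
  le_antisymm (S.TT_le_of_rel hA hB h) (S.TT_le_of_rel hB hA (S.rel_symm h))

/-- A torus. -/
def IsTor (S : Setting p Z J n) (T : Subgroup G) : Prop :=
  Good p T ∧ Z ≤ T ∧ S.Lv 6 T ∧ S.TT T = T

theorem member_of_tor (hT : S.IsTor T) : S.Member T := ⟨hT.1, S.lv_mono (by norm_num) hT.2.2.1⟩

theorem isTor_TT (hA : Good p A) (hl : S.Lv 8 A) : S.IsTor (S.TT A) := by
  have hm : S.Member A := ⟨hA, S.lv_mono (by norm_num) hl⟩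
  have h6 : S.Lv 6 (S.TT A) := by
    obtain ⟨a, ha, hna⟩ := hl
    refine ⟨_, S.pow_mem_TT hm ha, fun hz => hna ?_⟩
    rwa [← pow_mul, ← pow_add] at hz
  have hmT : S.Member (S.TT A) := ⟨S.good_TT hm, S.lv_mono (by norm_num) h6⟩
  have hrel : S.Rel 2 2 A (S.TT A) := fun a ha t ht =>
    (hmT.1.1 _ (S.pow_mem_TT hm ha) t ht).pow_right _
  exact ⟨hmT.1, S.z_le_TT, h6, (S.TT_eq_of_rel hm hmT hrel).symm⟩

theorem tor_eq_of_rel (hT : S.IsTor T) (hT' : S.IsTor T') (h : S.Rel 2 2 T T') : T = T' := by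
  rw [← hT.2.2.2, ← hT'.2.2.2]
  exact S.TT_eq_of_rel (S.member_of_tor hT) (S.member_of_tor hT') h

/-- Distinct tori meet in `Z`. -/
theorem tor_eq_of_common (hT : S.IsTor T) (hT' : S.IsTor T') {u : G} (hu : u ∉ Z) (h1 : u ∈ T)
    (h2 : u ∈ T') : T = T' := by
  refine S.tor_eq_of_rel hT hT' (S.normalise (i := 1) (j := 1) hT.1 hT'.1
    (S.lv_mono (by norm_num) hT.2.2.1) (S.lv_mono (by norm_num) hT.2.2.1)
    (S.lv_mono (by norm_num) hT'.2.2.1) ?_)
  exact S.of_common (i := 0) (j := 0) hu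
    (fun a ha => by rw [pow_zero, pow_one]; exact hT.1.1 a ha u h1)
    fun b hb => by rw [pow_zero, pow_one]; exact hT'.1.1 b hb u h2

/-! ### Conjugation -/

include S in
theorem z_conj (g : G) {z : G} (hz : z ∈ Z) : MulAut.conj g z = z := by
  show g * z * g⁻¹ = z
  rw [(S.comm_z hz g).eq, mul_inv_cancel_right]

theorem member_map (g : G) (hA : S.Member A) :
    S.Member (A.map (MulAut.conj g).toMonoidHom) := by
  obtain ⟨hA1, a, ha, hna⟩ := hA
  refine ⟨⟨?_, ?_⟩, MulAut.conj g a, ⟨a, ha, rfl⟩, fun hz => hna ?_⟩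
  · rintro _ ⟨x, hx, rfl⟩ _ ⟨y, hy, rfl⟩
    exact (hA1.1 x hx y hy).map _
  · rw [Subgroup.card_map_of_injective (MulAut.conj g).injective]
    exact hA1.2
  · rw [← map_pow] at hz
    have h := S.z_conj g⁻¹ hz
    rw [map_inv, MulAut.inv_apply_self] at h
    rwa [h]

theorem map_TT_le (g : G) :
    (S.TT A).map (MulAut.conj g).toMonoidHom ≤ S.TT (A.map (MulAut.conj g).toMonoidHom) := by
  rw [TT, MonoidHom.map_closure]
  refine Subgroup.closure_mono ?_
  rintro _ ⟨x, hx | ⟨B, hB, hAB, b, hb, rfl⟩, rfl⟩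
  · exact Or.inl (by rw [MulEquiv.coe_toMonoidHom, S.z_conj g hx]; exact hx)
  · refine Or.inr ⟨B.map (MulAut.conj g).toMonoidHom, S.member_map g hB, ?_, MulAut.conj g b,
      ⟨b, hb, rfl⟩, map_pow _ _ _⟩
    rintro _ ⟨a, ha, rfl⟩ _ ⟨b', hb', rfl⟩
    rw [← map_pow, ← map_pow]
    exact (hAB a ha b' hb').map _

theorem isTor_map (g : G) (hT : S.IsTor T) : S.IsTor (T.map (MulAut.conj g).toMonoidHom) := by
  obtain ⟨a, ha, hna⟩ := hT.2.2.1
  refine ⟨(S.member_map g (S.member_of_tor hT)).1, fun z hz => ⟨z, hT.2.1 hz, S.z_conj g hz⟩,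
    ⟨MulAut.conj g a, ⟨a, ha, rfl⟩, fun hz => hna ?_⟩, ?_⟩
  · rw [← map_pow] at hz
    have h := S.z_conj g⁻¹ hz
    rw [map_inv, MulAut.inv_apply_self] at h
    rwa [h]
  · refine le_antisymm ?_ ?_
    · intro x hx
      have h1 := S.map_TT_le g⁻¹ ⟨x, hx, rfl⟩
      have h2 : (T.map (MulAut.conj g).toMonoidHom).map (MulAut.conj g⁻¹).toMonoidHom = T := by
        rw [Subgroup.map_map]
        conv_rhs => rw [← Subgroup.map_id T]
        congr 1
        ext y
        simp [mul_assoc]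
      rw [h2, hT.2.2.2] at h1
      exact ⟨_, h1, by simp [mul_assoc]⟩
    · have h := S.map_TT_le (A := T) g
      rwa [hT.2.2.2] at h

/-! ### The sets of elements of large torus centralisers -/

/-- The elements outside `Z` with a large centraliser in `T`. -/
def U (S : Setting p Z J n) (T : Subgroup G) : Set G :=
  {x | x ∉ Z ∧ S.Lv 4 (T ⊓ Subgroup.centralizer {x})}

theorem mem_U_of_mem (hT : S.IsTor T) {x : G} (hx : x ∈ T) (hxZ : x ∉ Z) : x ∈ S.U T := by
  refine ⟨hxZ, S.lv_le (le_inf le_rfl fun t ht => ?_) (S.lv_mono (by norm_num) hT.2.2.1)⟩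
  exact Subgroup.mem_centralizer_singleton_iff.mpr (hT.1.1 t ht x hx)

theorem mul_mem_U (hT : Good p T) {x t : G} (hx : x ∈ S.U T) (ht : t ∈ T) (h : x * t ∉ Z) :
    x * t ∈ S.U T := by
  refine ⟨h, S.lv_le (le_inf inf_le_left fun s hs => ?_) hx.2⟩
  refine Subgroup.mem_centralizer_singleton_iff.mpr ?_
  have h1 : Commute s x := Subgroup.mem_centralizer_singleton_iff.mp hs.2
  exact (h1.mul_right (hT.1 s hs.1 t ht)).eq

theorem U_disjoint (hT : S.IsTor T) (hT' : S.IsTor T') {x : G} (h : x ∈ S.U T) (h' : x ∈ S.U T') :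
    T = T' := by
  set A := T ⊓ Subgroup.centralizer {x}
  set A' := T' ⊓ Subgroup.centralizer {x}
  have hA : S.Member A := ⟨hT.1.mono inf_le_left, h.2⟩
  have hA' : S.Member A' := ⟨hT'.1.mono inf_le_left, h'.2⟩
  have h1 : S.Rel 2 2 A A' := by
    refine S.normalise (i := 1) (j := 1) hA.1 hA'.1 (S.lv_mono (by norm_num) hA.2)
      (S.lv_mono (by norm_num) hA.2) (S.lv_mono (by norm_num) hA'.2) ?_
    refine S.of_common (i := 0) (j := 0) h.1 (fun a ha => ?_) fun b hb => ?_
    · rw [pow_zero, pow_one]; exact Subgroup.mem_centralizer_singleton_iff.mp ha.2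
    · rw [pow_zero, pow_one]; exact Subgroup.mem_centralizer_singleton_iff.mp hb.2
  refine S.tor_eq_of_rel hT hT' (S.trans (S.member_of_tor hT) hA' (S.member_of_tor hT') ?_
    (S.rel_of_le hT'.1 inf_le_left le_rfl 2 2))
  exact S.trans (S.member_of_tor hT) hA hA' (S.rel_of_le hT.1 le_rfl inf_le_left 2 2) h1

theorem U_subset_normalizer (hT : S.IsTor T) {x : G} (h : x ∈ S.U T) :
    x ∈ Subgroup.normalizer (T : Set G) := by
  obtain ⟨u, hu, huZ⟩ := S.lv_not_le h.2
  have hfix : T.map (MulAut.conj x).toMonoidHom = T := by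
    refine S.tor_eq_of_common (S.isTor_map x hT) hT huZ ⟨u, hu.1, ?_⟩ hu.1
    show x * u * x⁻¹ = u
    rw [← (Subgroup.mem_centralizer_singleton_iff.mp hu.2 : u * x = x * u), mul_inv_cancel_right]
  rw [Subgroup.mem_normalizer_iff]
  refine fun a => ⟨fun ha => hfix ▸ ⟨a, ha, rfl⟩, fun ha => ?_⟩
  have h1 : x * a * x⁻¹ ∈ T.map (MulAut.conj x).toMonoidHom := hfix.symm ▸ ha
  obtain ⟨b, hb, hbe⟩ := h1
  obtain rfl : b = a := (MulAut.conj x).injective hbe
  exact hb

/-! ### Bounds -/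

include S in
theorem card_le_pow (hA : Good p A) {k : ℕ} (hk : 0 < k) (hB : ∀ a ∈ A, a ^ k ∈ B) :
    Nat.card A ≤ k ^ n * Nat.card B := by
  let f : A →* A :=
    { toFun := fun a => a ^ k
      map_one' := one_pow k
      map_mul' := fun a b => Commute.mul_pow (Subtype.ext (hA.1 a a.2 b b.2).eq) k }
  rw [← Subgroup.card_mul_index f.ker, Subgroup.index_ker]
  refine Nat.mul_le_mul ?_ (Nat.card_le_card_of_injective
    (fun r => (⟨((r : A) : G), ?_⟩ : B)) fun a b h => ?_)
  · refine le_of_eq_of_le ?_ (S.tors A hA k hk)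
    exact Nat.card_congr (Equiv.subtypeEquivRight fun a => by rw [MonoidHom.mem_ker]; rfl)
  · obtain ⟨a, ha⟩ := r.2
    rw [← ha]
    exact hB a a.2
  · exact Subtype.ext (Subtype.ext (congrArg Subtype.val h :))

include S in
theorem good_sup_z {D : Subgroup G} (hD : Good p D) : Good p (D ⊔ Z) := by
  rw [← Subgroup.closure_eq D, ← Subgroup.closure_eq Z, ← Subgroup.closure_union]
  refine good_closure S.prime ?_ ?_
  · rintro a (ha | ha) b (hb | hb)
    · exact hD.1 a ha b hb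
    · exact S.comm_z hb a
    · exact (S.comm_z ha b).symm
    · exact S.comm_z hb a
  · rintro a (ha | ha)
    · exact ((good_iff S.prime).mp hD).2 a ha
    · exact fun hd => S.zp (hd.trans (Subgroup.orderOf_dvd_natCard Z ha))

include S in
theorem card_centralizer {x : G} (hx : x ∉ Z) :
    ∃ D : Subgroup G, Good p D ∧ Z ≤ D ∧ D ≤ Subgroup.centralizer {x} ∧
      Nat.card (Subgroup.centralizer ({x} : Set G)) ≤ J * Nat.card D := by
  obtain ⟨D, hD, hDx, hJ⟩ := S.cent x hx
  have hle : D ⊔ Z ≤ Subgroup.centralizer {x} :=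
    sup_le hDx (S.central.trans (Subgroup.center_le_centralizer _))
  refine ⟨D ⊔ Z, S.good_sup_z hD, le_sup_right, hle, ?_⟩
  have h1 := Subgroup.card_mul_index (D.subgroupOf (Subgroup.centralizer {x}))
  rw [Nat.card_congr (Subgroup.subgroupOfEquivOfLe hDx).toEquiv] at h1
  rw [← h1, mul_comm]
  exact Nat.mul_le_mul hJ (Nat.le_of_dvd Nat.card_pos (Subgroup.card_dvd_of_le le_sup_left))

/-- An element in no `U T` has a centraliser of bounded order modulo `Z`. -/
theorem card_centralizer_small {x : G} (hx : x ∉ Z) (h : ∀ T, S.IsTor T → x ∉ S.U T) :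
    Nat.card (Subgroup.centralizer ({x} : Set G)) ≤
      J * ((J.factorial ^ 8) ^ n * Nat.card Z) := by
  obtain ⟨D, hD, hZD, hDx, hcard⟩ := S.card_centralizer hx
  refine hcard.trans (Nat.mul_le_mul le_rfl (S.card_le_pow hD (pow_pos J.factorial_pos 8) ?_))
  by_contra hc
  push Not at hc
  obtain ⟨d, hd, hdZ⟩ := hc
  have hl : S.Lv 8 D := ⟨d, hd, hdZ⟩
  have hm : S.Member D := ⟨hD, S.lv_mono (by norm_num) hl⟩
  refine h _ (S.isTor_TT hD hl) ⟨hx, _, ⟨S.pow_mem_TT hm hd,
    Subgroup.pow_mem _ (hDx hd) _⟩, fun hz => hdZ ?_⟩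
  rw [← pow_mul, ← pow_add] at hz
  rw [pow_level (show 6 ≤ 8 by norm_num)]
  exact Z.pow_mem hz _

/-- The normaliser of a torus is a bounded extension. -/
theorem card_normalizer_tor (hT : S.IsTor T) :
    Nat.card (Subgroup.normalizer (T : Set G)) ≤
      n.factorial * (J * (J.factorial ^ 2) ^ n) * Nat.card T := by
  obtain ⟨u, hu, huZ⟩ := S.lv_not_le hT.2.2.1
  obtain ⟨D, hD, hZD, hDu, hcard⟩ := S.card_centralizer huZ
  set CT := Subgroup.centralizer (T : Set G)
  set E := D ⊓ CT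
  have hE : Good p E := hD.mono inf_le_left
  have hCu : CT ≤ Subgroup.centralizer {u} :=
    Subgroup.centralizer_le (Set.singleton_subset_iff.mpr hu)
  have hB : Good p (T ⊔ E) := by
    rw [← Subgroup.closure_eq T, ← Subgroup.closure_eq E, ← Subgroup.closure_union]
    refine good_closure S.prime ?_ ?_
    · rintro a (ha | ha) b (hb | hb)
      · exact hT.1.1 a ha b hb
      · exact Subgroup.mem_centralizer_iff.mp hb.2 a ha
      · exact (Subgroup.mem_centralizer_iff.mp ha.2 b hb).symm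
      · exact hE.1 a ha b hb
    · rintro a (ha | ha)
      · exact ((good_iff S.prime).mp hT.1).2 a ha
      · exact ((good_iff S.prime).mp hE).2 a ha
  have hmT := S.member_of_tor hT
  have hmB : S.Member (T ⊔ E) := ⟨hB, S.lv_le le_sup_left hmT.2⟩
  have hpow : ∀ a ∈ E, a ^ (J.factorial ^ 2) ∈ T := fun a ha => by
    have h1 : a ^ (J.factorial ^ 2) ∈ S.TT T := Subgroup.subset_closure (Or.inr
      ⟨T ⊔ E, hmB, S.rel_of_le hB le_sup_left le_rfl 2 2, a, Subgroup.mem_sup_right ha, rfl⟩)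
    rwa [hT.2.2.2] at h1
  have hE' := S.card_le_pow hE (pow_pos J.factorial_pos 2) hpow
  have hCT : Nat.card CT ≤ J * Nat.card E := by
    have h1 := Subgroup.card_mul_index (E.subgroupOf CT)
    rw [Nat.card_congr (Subgroup.subgroupOfEquivOfLe (inf_le_right : E ≤ CT)).toEquiv] at h1
    rw [← h1, mul_comm]
    refine Nat.mul_le_mul_right _ ?_
    show E.relIndex CT ≤ J
    rw [show E = D ⊓ CT from rfl, Subgroup.inf_relIndex_right]
    have h3 : D.relIndex (Subgroup.centralizer {u}) ≤ J := by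
      have h2 := Subgroup.card_mul_index (D.subgroupOf (Subgroup.centralizer {u}))
      rw [Nat.card_congr (Subgroup.subgroupOfEquivOfLe hDu).toEquiv] at h2
      exact Nat.le_of_mul_le_mul_left ((mul_comm J (Nat.card D)) ▸ h2.le.trans hcard) Nat.card_pos
    exact (Subgroup.relIndex_le_of_le_right hCu Subgroup.index_ne_zero_of_finite).trans h3
  set N := Subgroup.normalizer (T : Set G)
  have hCN : CT ≤ N := Subgroup.centralizer_le_normalizer _
  have h1 := Subgroup.card_mul_index (CT.subgroupOf N)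
  rw [Nat.card_congr (Subgroup.subgroupOfEquivOfLe hCN).toEquiv] at h1
  rw [← h1]
  calc Nat.card CT * (CT.subgroupOf N).index
      ≤ (J * ((J.factorial ^ 2) ^ n * Nat.card T)) * n.factorial :=
        Nat.mul_le_mul (hCT.trans (Nat.mul_le_mul le_rfl hE')) (S.norm T hT.1)
    _ = _ := by ring

end Setting

end CfsgLib.CharBlocks.ModularJordan
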