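import Mathlib.LinearAlgebra.Eigenspace.Pi
import Mathlib.LinearAlgebra.Eigenspace.Triangularizable
import Mathlib.LinearAlgebra.Eigenspace.Semisimple
import Mathlib.FieldTheory.Separable
import Mathlib.RingTheory.RootsOfUnity.Basic
import Mathlib.LinearAlgebra.Semisimple
import Mathlib.GroupTheory.Index
import Mathlib.Data.Finite.Perm

/-!
# Weights of abelian `p'`-subgroups of linear groups

* `card_pow_eq_one_le`: at most `k ^ n` elements killed by `k`;
* `relIndex_centralizer_le`: the normalizer acts on the weights;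
* `index_scalar_commutator_le`: few scalars `c` with `g x g⁻¹ = c x`.
-/

set_option autoImplicit false
set_option linter.unusedSectionVars false

noncomputable section

namespace CfsgLib.CharBlocks.ModularJordan

open Module

universe u v w

variable {G : Type u} [Group G] [Finite G] {F : Type v} [Field F] [IsAlgClosed F]
  {V : Type w} [AddCommGroup V] [Module F V] [FiniteDimensional F V]

/-- Abelian of order prime to `p`. -/
def Good (p : ℕ) (A : Subgroup G) : Prop :=
  (∀ a ∈ A, ∀ b ∈ A, Commute a b) ∧ ¬ p ∣ Nat.card A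

theorem Good.mono {p : ℕ} {A B : Subgroup G} (h : Good p B) (hAB : A ≤ B) : Good p A :=
  ⟨fun a ha b hb => h.1 a (hAB ha) b (hAB hb), fun hd =>
    h.2 (hd.trans (Subgroup.card_dvd_of_le hAB))⟩

/-- The weight space. -/
def wsp (ρ : G →* End F V) (A : Subgroup G) (χ : A → F) : Submodule F V :=
  ⨅ a : A, (ρ (a : G)).eigenspace (χ a)

variable {p : ℕ} [CharP F p] (ρ : G →* End F V) {A : Subgroup G}

theorem isSemisimple_of_good (hA : Good p A) (a : A) : (ρ (a : G)).IsSemisimple := by
  refine End.isSemisimple_of_squarefree_aeval_eq_zero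
    (p := Polynomial.X ^ Nat.card A - 1) ?_ ?_
  · refine (Polynomial.X_pow_sub_one_separable_iff.mpr ?_).squarefree
    rw [Ne, CharP.cast_eq_zero_iff F p]
    exact hA.2
  · rw [map_sub, map_pow, Polynomial.aeval_X, map_one, ← map_pow, ← Subgroup.coe_pow,
      pow_card_eq_one', OneMemClass.coe_one, map_one, sub_self]

theorem wsp_eq (hA : Good p A) (χ : A → F) :
    wsp ρ A χ = ⨅ a : A, (ρ (a : G)).maxGenEigenspace (χ a) := by
  refine iInf_congr fun a => ?_
  rw [(End.isFinitelySemisimple_iff_isSemisimple.mpr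
    (isSemisimple_of_good ρ hA a)).maxGenEigenspace_eq_eigenspace]

theorem commute_good (hA : Good p A) (a b : A) : Commute (ρ (a : G)) (ρ (b : G)) :=
  (hA.1 a a.2 b b.2).map ρ

theorem iSup_wsp (hA : Good p A) : ⨆ χ : A → F, wsp ρ A χ = ⊤ := by
  simp only [wsp_eq ρ hA]
  exact End.iSup_iInf_maxGenEigenspace_eq_top_of_iSup_maxGenEigenspace_eq_top_of_commute _
    (fun a b _ => commute_good ρ hA a b) fun a => End.iSup_maxGenEigenspace_eq_top _

theorem iSupIndep_wsp (hA : Good p A) : iSupIndep (wsp ρ A) := by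
  rw [show wsp ρ A = fun χ : A → F => ⨅ a : A, (ρ (a : G)).maxGenEigenspace (χ a) from
    funext (wsp_eq ρ hA)]
  exact End.independent_iInf_maxGenEigenspace_of_forall_mapsTo _ fun a b φ =>
    End.mapsTo_maxGenEigenspace_of_comm (commute_good ρ hA b a) φ

/-- The weights. -/
def Weight (A : Subgroup G) : Type _ := {χ : A → F // wsp ρ A χ ≠ ⊥}

theorem finite_weight (hA : Good p A) : Finite (Weight ρ A) := by
  have h := (iSupIndep_wsp ρ hA).subtype_ne_bot_le_finrank_aux
  exact Cardinal.lt_aleph0_iff_finite.mp (lt_of_le_of_lt h Cardinal.natCast_lt_aleph0)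

theorem card_weight_le (hA : Good p A) : Nat.card (Weight ρ A) ≤ finrank F V := by
  have := finite_weight ρ hA
  have : Finite {χ : A → F // wsp ρ A χ ≠ ⊥} := finite_weight ρ hA
  have := Fintype.ofFinite {χ : A → F // wsp ρ A χ ≠ ⊥}
  rw [Weight, Nat.card_eq_fintype_card]
  exact (iSupIndep_wsp ρ hA).subtype_ne_bot_le_finrank

theorem eq_of_eqOn_wsp (hA : Good p A) {φ ψ : End F V}
    (h : ∀ χ : Weight ρ A, ∀ x ∈ wsp ρ A χ.1, φ x = ψ x) : φ = ψ := by
  refine LinearMap.ext fun x => ?_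
  have hle : (⊤ : Submodule F V) ≤ LinearMap.eqLocus φ ψ := by
    rw [← iSup_wsp ρ hA]
    refine iSup_le fun χ => ?_
    by_cases hχ : wsp ρ A χ = ⊥
    · rw [hχ]; exact bot_le
    · exact fun x hx => h ⟨χ, hχ⟩ x hx
  exact hle Submodule.mem_top

theorem mem_wsp {χ : A → F} {x : V} (hx : x ∈ wsp ρ A χ) (a : A) : ρ (a : G) x = χ a • x :=
  End.mem_eigenspace_iff.mp ((Submodule.mem_iInf _).mp hx a)

theorem weight_one (χ : Weight ρ A) : χ.1 1 = 1 := by
  obtain ⟨x, hx, hx0⟩ := Submodule.exists_mem_ne_zero_of_ne_bot χ.2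
  have h := mem_wsp ρ hx 1
  rw [OneMemClass.coe_one, map_one, End.one_apply] at h
  exact (smul_left_injective F hx0 (show (1 : F) • x = χ.1 1 • x by rw [one_smul, ← h])).symm

theorem weight_mul (χ : Weight ρ A) (a b : A) : χ.1 (a * b) = χ.1 a * χ.1 b := by
  obtain ⟨x, hx, hx0⟩ := Submodule.exists_mem_ne_zero_of_ne_bot χ.2
  refine smul_left_injective F hx0 ?_
  show χ.1 (a * b) • x = (χ.1 a * χ.1 b) • x
  rw [← mem_wsp ρ hx (a * b), Subgroup.coe_mul, map_mul, End.mul_apply, mem_wsp ρ hx b,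
    map_smul, mem_wsp ρ hx a, smul_smul, mul_comm]

theorem eq_of_weights (hinj : Function.Injective ρ) (hA : Good p A) {a b : A}
    (h : ∀ χ : Weight ρ A, χ.1 a = χ.1 b) : a = b :=
  Subtype.ext (hinj (eq_of_eqOn_wsp ρ hA fun χ x hx => by
    rw [mem_wsp ρ hx a, mem_wsp ρ hx b, h χ]))

/-- At most `k ^ n` elements are killed by `k`. -/
theorem card_pow_eq_one_le (hinj : Function.Injective ρ) (hA : Good p A) {k : ℕ} (hk : 0 < k) :
    Nat.card {a : A // a ^ k = 1} ≤ k ^ finrank F V := by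
  classical
  have := finite_weight ρ hA
  have := Fintype.ofFinite (Weight ρ A)
  have hroot : ∀ (a : {a : A // a ^ k = 1}) (χ : Weight ρ A),
      χ.1 a.1 ∈ Polynomial.nthRootsFinset k (1 : F) := by
    intro a χ
    rw [Polynomial.mem_nthRootsFinset hk]
    let f : A →* F := ⟨⟨χ.1, weight_one ρ χ⟩, weight_mul ρ χ⟩
    show f a.1 ^ k = 1
    rw [← map_pow, a.2, map_one]
  refine (Nat.card_le_card_of_injective
    (fun a (χ : Weight ρ A) => (⟨χ.1 a.1, hroot a χ⟩ : Polynomial.nthRootsFinset k (1 : F)))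
    fun a b hab => Subtype.ext (eq_of_weights ρ hinj hA fun χ =>
      congrArg Subtype.val (congrFun hab χ))).trans ?_
  rw [Nat.card_fun, Nat.card_eq_finsetCard]
  refine (Nat.pow_le_pow_left ((Multiset.toFinset_card_le _).trans
    (Polynomial.card_nthRoots k 1)) _).trans
    (Nat.pow_le_pow_right hk (card_weight_le ρ hA))

/-- The normalizer acts on the weights with kernel centralising. -/
theorem relIndex_centralizer_le (hinj : Function.Injective ρ) (hA : Good p A) :
    (Subgroup.centralizer (A : Set G)).relIndex (Subgroup.normalizer (A : Set G)) ≤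
      (finrank F V).factorial := by
  classical
  have := finite_weight ρ hA
  have := Fintype.ofFinite (Weight ρ A)
  set N := Subgroup.normalizer (A : Set G)
  have hcj : ∀ (g : N) (a : A), (g : G)⁻¹ * a * g ∈ A := fun g a => by
    simpa using (Subgroup.mem_normalizer_iff.mp (N.inv_mem g.2) a).mp a.2
  let c : N → A → A := fun g a => ⟨(g : G)⁻¹ * a * g, hcj g a⟩
  have hc : ∀ g h a, c (g * h) a = c h (c g a) := fun g h a => Subtype.ext (by
    simp [c, mul_assoc])
  have hmap : ∀ (g : N) (χ : A → F), ∀ x ∈ wsp ρ A χ, ρ (g : G) x ∈ wsp ρ A (χ ∘ c g) := by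
    intro g χ x hx
    refine (Submodule.mem_iInf _).mpr fun a => End.mem_eigenspace_iff.mpr ?_
    rw [← End.mul_apply, ← map_mul, show (a : G) * g = g * (c g a : G) by simp [c, mul_assoc],
      map_mul, End.mul_apply, mem_wsp ρ hx, map_smul]
    rfl
  have hne : ∀ (g : N) (χ : Weight ρ A), wsp ρ A (χ.1 ∘ c g) ≠ ⊥ := by
    intro g χ h0
    obtain ⟨x, hx, hx0⟩ := Submodule.exists_mem_ne_zero_of_ne_bot χ.2
    have h1 := hmap g χ.1 x hx
    rw [h0, Submodule.mem_bot] at h1
    refine hx0 ?_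
    have h2 : ρ ((g : G)⁻¹) (ρ (g : G) x) = x := by
      rw [← End.mul_apply, ← map_mul, inv_mul_cancel, map_one, End.one_apply]
    rw [← h2, h1, map_zero]
  let act : MulAction N (Weight ρ A) :=
    { smul := fun g χ => ⟨χ.1 ∘ c g, hne g χ⟩
      one_smul := fun χ => Subtype.ext (funext fun a => congrArg χ.1 (Subtype.ext (by simp [c])))
      mul_smul := fun g h χ => Subtype.ext (funext fun a => congrArg χ.1 (hc g h a)) }
  let f : N →* Equiv.Perm (Weight ρ A) := MulAction.toPermHom N (Weight ρ A)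
  have hker : f.ker ≤ (Subgroup.centralizer (A : Set G)).subgroupOf N := by
    intro g hg
    refine Subgroup.mem_centralizer_iff.mpr fun a ha => ?_
    have h1 : ∀ χ : Weight ρ A, χ.1 (c g ⟨a, ha⟩) = χ.1 ⟨a, ha⟩ := fun χ =>
      congrFun (congrArg Subtype.val (DFunLike.congr_fun (MonoidHom.mem_ker.mp hg) χ :)) ⟨a, ha⟩
    have h2 : (g : G)⁻¹ * a * g = a := congrArg Subtype.val (eq_of_weights ρ hinj hA h1)
    show a * (g : G) = (g : G) * a
    conv_rhs => rw [← h2]
    simp [mul_assoc]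
  refine (Subgroup.index_antitone hker).trans ?_
  rw [Subgroup.index_ker]
  refine (Nat.le_of_dvd Nat.card_pos (Subgroup.card_subgroup_dvd_card _)).trans ?_
  rw [Nat.card_perm]
  exact Nat.factorial_le (card_weight_le ρ hA)

/-- The eigenspace of a nonscalar element is proper. -/
theorem exists_eigen [Nontrivial V] {x : G} (hx : ∀ c : F, ρ x ≠ c • 1) :
    ∃ c : F, (ρ x).eigenspace c ≠ ⊥ ∧ (ρ x).eigenspace c ≠ ⊤ := by
  obtain ⟨c, hc⟩ := End.exists_eigenvalue (ρ x)
  refine ⟨c, hc, fun h => hx c (LinearMap.ext fun y => ?_)⟩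
  have hy : y ∈ (ρ x).eigenspace c := by rw [h]; exact Submodule.mem_top
  rw [End.mem_eigenspace_iff.mp hy]
  rfl

end CfsgLib.CharBlocks.ModularJordan
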